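import Cfsg.Agent.H563.RV.PslTwo

/-!
# The `N`-row for `PSL_2(q)`: the case `H ≅ A_5` (helper563)
-/

set_option autoImplicit false

namespace Cfsg.Agent.H563.RV

open Cfsg Matrix Subgroup
open Cfsg.Agent.ClassicalGeometry.AutPSL.Root Cfsg.Agent.ClassicalGeometry.AutPSL.Auto

section Tr

variable {F : Type*} [Field F]

local notation "S2" => Matrix.SpecialLinearGroup (Fin 2) F
local notation "M2" => Matrix (Fin 2) (Fin 2) F

/-- powers of a matrix of determinant 1 -/
theorem sq_eq (M : M2) (h : M.det = 1) : M * M = M.trace • M - 1 := by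
  have h1 := Matrix.det_fin_two M
  rw [h] at h1
  ext i j
  fin_cases i <;> fin_cases j <;>
    simp [Matrix.mul_apply, Fin.sum_univ_two, Matrix.trace_fin_two] <;> first | ring1 | linear_combination h1

theorem trace_sq' (M : M2) (h : M.det = 1) : (M ^ 2).trace = M.trace ^ 2 - 2 := by
  rw [pow_two, sq_eq M h, trace_sub, trace_smul, trace_one, smul_eq_mul, Fintype.card_fin]
  push_cast
  ring

theorem trace_cube (M : M2) (h : M.det = 1) : (M ^ 3).trace = M.trace ^ 3 - 3 * M.trace := by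
  have h2 : M ^ 3 = (M.trace ^ 2 - 1) • M - M.trace • (1 : M2) := by
    rw [pow_succ, pow_two, sq_eq M h, sub_mul, smul_mul_assoc, sq_eq M h, one_mul, smul_sub, smul_smul, sub_smul, one_smul,
      ← pow_two]
    abel
  rw [h2, trace_sub, trace_smul, trace_smul, trace_one, smul_eq_mul, smul_eq_mul, Fintype.card_fin]
  push_cast
  ring

theorem trace_five (M : M2) (h : M.det = 1) : (M ^ 5).trace = M.trace ^ 5 - 5 * M.trace ^ 3 + 5 * M.trace := by
  have h1 := Cfsg.Agent.H491.KGV.pow_five M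
  rw [h1, h, trace_sub, trace_smul, trace_smul, trace_one, smul_eq_mul, smul_eq_mul, Fintype.card_fin]
  push_cast
  ring

/-- the elements whose order modulo the centre is 1, 2, 3 or 5 have traces satisfying one of these -/
theorem trace_cases {h : S2} {r : ℕ} (hr : r = 2 ∨ r = 3 ∨ r = 5) (hh : h ^ r = 1 ∨ h ^ r = -1) :
    (∃ n : ℤ, h.1.trace = n) ∨ h.1.trace * h.1.trace + h.1.trace = 1 ∨ h.1.trace * h.1.trace - h.1.trace = 1 := by
  have h0 : h.1.det = 1 := h.2
  set τ := h.1.trace with hτ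
  have ht : (h.1 ^ r).trace = 2 ∨ (h.1 ^ r).trace = -2 := by
    rcases hh with h1 | h1
    · left
      have h2 : h.1 ^ r = 1 := congrArg Subtype.val h1
      rw [h2, trace_one]
      simp
    · right
      have h2 : h.1 ^ r = -1 := congrArg Subtype.val h1
      rw [h2, trace_neg, trace_one]
      simp
  rcases hr with rfl | rfl | rfl
  · rw [trace_sq' _ h0, ← hτ] at ht
    left
    rcases ht with h1 | h1
    · have h2 : (τ - 2) * (τ + 2) = 0 := by linear_combination h1
      rcases mul_eq_zero.1 h2 with h3 | h3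
      · exact ⟨2, by push_cast; linear_combination h3⟩
      · exact ⟨-2, by push_cast; linear_combination h3⟩
    · have h2 : τ ^ 2 = 0 := by linear_combination h1
      exact ⟨0, by push_cast; exact pow_eq_zero_iff two_ne_zero |>.1 h2⟩
  · rw [trace_cube _ h0, ← hτ] at ht
    left
    rcases ht with h1 | h1
    · have h2 : (τ - 2) * (τ + 1) ^ 2 = 0 := by linear_combination h1
      rcases mul_eq_zero.1 h2 with h3 | h3
      · exact ⟨2, by push_cast; linear_combination h3⟩
      · exact ⟨-1, by push_cast; linear_combination pow_eq_zero_iff two_ne_zero |>.1 h3⟩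
    · have h2 : (τ + 2) * (τ - 1) ^ 2 = 0 := by linear_combination h1
      rcases mul_eq_zero.1 h2 with h3 | h3
      · exact ⟨-2, by push_cast; linear_combination h3⟩
      · exact ⟨1, by push_cast; linear_combination pow_eq_zero_iff two_ne_zero |>.1 h3⟩
  · rw [trace_five _ h0, ← hτ] at ht
    rcases ht with h1 | h1
    · have h2 : (τ - 2) * (τ ^ 2 + τ - 1) ^ 2 = 0 := by linear_combination h1
      rcases mul_eq_zero.1 h2 with h3 | h3
      · exact Or.inl ⟨2, by push_cast; linear_combination h3⟩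
      · right; left
        linear_combination pow_eq_zero_iff two_ne_zero |>.1 h3
    · have h2 : (τ + 2) * (τ ^ 2 - τ - 1) ^ 2 = 0 := by linear_combination h1
      rcases mul_eq_zero.1 h2 with h3 | h3
      · exact Or.inl ⟨-2, by push_cast; linear_combination h3⟩
      · right; right
        linear_combination pow_eq_zero_iff two_ne_zero |>.1 h3

/-- `Φ` multiplies traces by `σ` -/
theorem trace_act (A : GL (Fin 2) F) (σ : F ≃+* F) (x : S2) : ((cj A * fld σ : MulAut S2) x).1.trace = σ x.1.trace := by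
  have h1 : ((cj A * fld σ : MulAut S2) x).1 = (A : M2) * (x.1.map σ) * ((A⁻¹ : GL (Fin 2) F) : M2) := rfl
  rw [h1, Matrix.trace_mul_comm, ← Matrix.mul_assoc, ← Units.val_mul, inv_mul_cancel, Units.val_one, Matrix.one_mul]
  rw [Matrix.trace_fin_two, Matrix.trace_fin_two, map_add]
  rfl

/-- A root of `τ² + τ = 1` is fixed by `σ` if an odd power of `Φ` is trivial modulo the centre. -/
theorem fixed_root {σ : F ≃+* F} {Φ : MulAut S2} (hΦ : ∀ x : S2, (Φ x).1.trace = σ x.1.trace) {N : ℕ} (hN : Odd N)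
    (hΦN : ∀ x : S2, (Φ ^ N) x = x ∨ (Φ ^ N) x = -x) {τ : F} (hτ : τ * τ + τ = 1) : σ τ = τ := by
  have h1 : σ τ * σ τ + σ τ = 1 := by rw [← map_mul, ← map_add, hτ, map_one]
  have h2 : (σ τ - τ) * (σ τ + τ + 1) = 0 := by linear_combination h1 - hτ
  rcases mul_eq_zero.1 h2 with h3 | h3
  · exact sub_eq_zero.1 h3
  have h4 : σ τ = -1 - τ := by linear_combination h3
  have h5 : σ (-1 - τ) = τ := by
    rw [map_sub, map_neg, map_one, h4]; ring
  let x : S2 := ⟨!![τ, 1; -1, 0], by simp [Matrix.det_fin_two]⟩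
  have hx : x.1.trace = τ := by simp [x, Matrix.trace_fin_two]
  have key : ∀ j : ℕ, ((Φ ^ (2 * j)) x).1.trace = τ ∧ ((Φ ^ (2 * j + 1)) x).1.trace = -1 - τ := by
    intro j
    induction j with
    | zero =>
      refine ⟨?_, ?_⟩
      · simpa using hx
      · rw [mul_zero, zero_add, pow_one, hΦ, hx, h4]
    | succ j ih =>
      have h6 : ((Φ ^ (2 * (j + 1))) x).1.trace = τ := by
        rw [show 2 * (j + 1) = (2 * j + 1) + 1 from by ring, pow_succ', MulAut.mul_apply, hΦ, ih.2, h5]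
      refine ⟨h6, ?_⟩
      rw [pow_succ', MulAut.mul_apply, hΦ, h6, h4]
  obtain ⟨j, hj⟩ := hN
  have h6 := (key j).2
  rw [← hj] at h6
  rcases hΦN x with h7 | h7
  · rw [h7, hx] at h6
    rw [h4]; exact h6.symm
  · exfalso
    have h8 : ((Φ ^ N) x).1.trace = -τ := by
      rw [h7]
      have : (-x).1 = -x.1 := rfl
      rw [this, trace_neg, hx]
    rw [h8] at h6
    have : (1 : F) = 0 := by linear_combination h6
    exact one_ne_zero this

/-- the four matrices `1, a, b, ab` detect matrices by traces -/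
theorem zero_of_traces (h2 : (2 : F) ≠ 0) {r s : F} (hrs : r * r + s * s = -1) (g : S2) (X : M2)
    (h0 : X.trace = 0) (ha : (X * (g.1 * !![0, 1; -1, 0] * (g⁻¹).1)).trace = 0)
    (hb : (X * (g.1 * !![r, s; s, -r] * (g⁻¹).1)).trace = 0)
    (hab : (X * (g.1 * (!![0, 1; -1, 0] * !![r, s; s, -r]) * (g⁻¹).1)).trace = 0) : X = 0 := by
  have hg : g.1 * (g⁻¹).1 = 1 := congrArg Subtype.val (mul_inv_cancel g)
  have hg' : (g⁻¹).1 * g.1 = 1 := congrArg Subtype.val (inv_mul_cancel g)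
  set Z : M2 := (g⁻¹).1 * X * g.1 with hZ
  have hX : X = g.1 * Z * (g⁻¹).1 := by
    rw [hZ]
    calc X = 1 * X * 1 := by rw [Matrix.one_mul, Matrix.mul_one]
      _ = (g.1 * (g⁻¹).1) * X * (g.1 * (g⁻¹).1) := by rw [hg]
      _ = _ := by simp only [Matrix.mul_assoc]
  have htr : ∀ B : M2, (X * (g.1 * B * (g⁻¹).1)).trace = (Z * B).trace := by
    intro B
    rw [← Matrix.mul_assoc, Matrix.trace_mul_comm, hZ]
    simp only [Matrix.mul_assoc]
  rw [htr] at ha hb hab
  have h0' : Z.trace = 0 := by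
    rw [hZ, Matrix.trace_mul_comm, ← Matrix.mul_assoc, hg, Matrix.one_mul, h0]
  simp only [Matrix.trace_fin_two, Matrix.mul_apply, Fin.sum_univ_two, Matrix.of_apply, Matrix.cons_val_zero,
    Matrix.cons_val_one, Matrix.cons_val', Matrix.empty_val', Matrix.cons_val_fin_one] at ha hb hab h0'
  have e1 : Z 1 1 = - Z 0 0 := by linear_combination h0'
  have e2 : Z 1 0 = Z 0 1 := by linear_combination ha
  rw [e1, e2] at hb hab
  have e3 : (2 : F) * Z 0 0 = 0 := by linear_combination -r * hb - s * hab + 2 * (Z 0 0) * hrs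
  have e4 : Z 0 0 = 0 := (mul_eq_zero.1 e3).resolve_left h2
  have e5 : (2 : F) * Z 0 1 = 0 := by
    rw [e4] at hb hab
    linear_combination -s * hb + r * hab + 2 * (Z 0 1) * hrs
  have e6 : Z 0 1 = 0 := (mul_eq_zero.1 e5).resolve_left h2
  have hZ0 : Z = 0 := by
    ext i j
    fin_cases i <;> fin_cases j
    · exact e4
    · exact e6
    · exact e2.trans e6
    · show Z 1 1 = 0
      rw [e1, e4, neg_zero]
  rw [hX, hZ0, Matrix.mul_zero, Matrix.zero_mul]

end Tr

section Main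

variable {F : Type} [Field F] [Fintype F]

local notation "S2" => Matrix.SpecialLinearGroup (Fin 2) F
local notation "M2" => Matrix (Fin 2) (Fin 2) F
local notation "P2" => Matrix.ProjectiveSpecialLinearGroup (Fin 2) F

theorem perm5_ord : ∀ σ : Equiv.Perm (Fin 5), Equiv.Perm.sign σ = 1 → σ ^ 2 = 1 ∨ σ ^ 3 = 1 ∨ σ ^ 5 = 1 := by
  decide +kernel

theorem isPGroup_zpowers {G : Type*} [Group G] {x : G} (h : x * x = 1) : IsPGroup 2 (Subgroup.zpowers x) := by
  rintro ⟨y, k, rfl⟩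
  refine ⟨1, Subtype.ext ?_⟩
  rw [Subgroup.coe_pow, pow_one]
  show (x ^ k) ^ 2 = 1
  rw [pow_two, ← (Commute.refl x).mul_zpow, h, _root_.one_zpow]

theorem card_alt5 : Nat.card (alternatingGroup (Fin 5)) = 60 := by
  have := two_mul_nat_card_alternatingGroup (α := Fin 5)
  rw [Nat.card_perm, Nat.card_fin] at this
  have h2 : Nat.factorial 5 = 120 := rfl
  omega

theorem exists_rs {p : ℕ} [hp : Fact p.Prime] [CharP F p] : ∃ r s : F, r * r + s * s = -1 := by
  obtain ⟨a, b, hab⟩ := ZMod.sq_add_sq p (-1)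
  let f : ZMod p →+* F := ZMod.castHom dvd_rfl F
  refine ⟨f a, f b, ?_⟩
  rw [← map_mul, ← map_mul, ← map_add, ← pow_two, ← pow_two, hab, map_neg, map_one]

/-- The case `H ≅ A_5`. -/
theorem nAt_alt {p : ℕ} [hp : Fact p.Prime] [CharP F p] (h2 : (2 : F) ≠ 0) (H : Subgroup P2)
    (e : H ≃* alternatingGroup (Fin 5)) : H165.RV.NAt H := by
  intro P hPH φ hφ hfix
  have hne : H ≠ ⊥ := by
    intro h
    have h3 : Nat.card H = 60 := by rw [Nat.card_congr e.toEquiv]; exact card_alt5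
    rw [h, Subgroup.card_bot] at h3
    norm_num at h3
  refine ⟨H, hne, le_rfl, fun h hh n hn => H.mul_mem (H.mul_mem hh hn) (H.inv_mem hh), ?_⟩
  obtain ⟨A, σ, hφA⟩ := Cfsg.Agent.ClassicalGeometry.AutPSL.Main.surj_two p φ
  set Φ : MulAut S2 := cj A * fld σ with hΦ
  have hpr : ∀ x : S2, φ (pr x) = pr (Φ x) := by
    intro x
    rw [hφA]
    rfl
  have htr : ∀ x : S2, (Φ x).1.trace = σ x.1.trace := trace_act A σ
  have hprpow : ∀ (k : ℕ) (x : S2), (φ ^ k) (pr x) = pr ((Φ ^ k) x) := by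
    intro k
    induction k with
    | zero => intro x; rfl
    | succ k ih =>
      intro x
      rw [pow_succ', pow_succ', MulAut.mul_apply, MulAut.mul_apply, ih, hpr]
  have hΦN : ∀ x : S2, (Φ ^ (orderOf φ)) x = x ∨ (Φ ^ (orderOf φ)) x = -x := by
    intro x
    have h3 := hprpow (orderOf φ) x
    rw [pow_orderOf_eq_one, MulAut.one_apply] at h3
    exact Cfsg.Agent.H947.Sy.pr_eq_iff.1 h3
  -- traces are fixed
  have hfixtr : ∀ h : S2, pr h ∈ H → σ h.1.trace = h.1.trace := by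
    intro h hh
    have h3 : ∃ r : ℕ, (r = 2 ∨ r = 3 ∨ r = 5) ∧ (pr h) ^ r = 1 := by
      have h4 := perm5_ord (e ⟨pr h, hh⟩ : alternatingGroup (Fin 5)).1
        (Equiv.Perm.mem_alternatingGroup.1 (e ⟨pr h, hh⟩).2)
      have h5 : ∀ r : ℕ, (e ⟨pr h, hh⟩ : alternatingGroup (Fin 5)).1 ^ r = 1 → (pr h) ^ r = 1 := by
        intro r hr
        have h6 : (e ⟨pr h, hh⟩) ^ r = 1 := Subtype.ext hr
        rw [← map_pow, ← map_one e] at h6
        exact congrArg Subtype.val (e.injective h6)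
      rcases h4 with h4 | h4 | h4
      · exact ⟨2, Or.inl rfl, h5 2 h4⟩
      · exact ⟨3, Or.inr (Or.inl rfl), h5 3 h4⟩
      · exact ⟨5, Or.inr (Or.inr rfl), h5 5 h4⟩
    obtain ⟨r, hr, hr1⟩ := h3
    have h4 : h ^ r = 1 ∨ h ^ r = -1 := by
      rw [← map_pow, ← map_one pr] at hr1
      rcases Cfsg.Agent.H947.Sy.pr_eq_iff.1 hr1 with h5 | h5
      · exact Or.inl h5.symm
      · right
        rw [h5, neg_neg]
    rcases trace_cases hr h4 with ⟨n, hn⟩ | h5 | h5
    · rw [hn, map_intCast]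
    · exact fixed_root htr hφ hΦN h5
    · have h6 : σ (-h.1.trace) = -h.1.trace := fixed_root htr hφ hΦN (by linear_combination h5)
      rw [map_neg] at h6
      exact neg_injective h6
  -- the explicit four-group
  obtain ⟨r, s, hrs⟩ := exists_rs (F := F) (p := p)
  let a0 : S2 := ⟨!![0, 1; -1, 0], by simp [Matrix.det_fin_two]⟩
  let b0 : S2 := ⟨!![r, s; s, -r], by
    rw [Matrix.det_fin_two]; simp; linear_combination -hrs⟩
  have haa : a0 * a0 = -1 := by
    apply Subtype.ext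
    show (!![0, 1; -1, 0] : M2) * !![0, 1; -1, 0] = -1
    ext i j
    fin_cases i <;> fin_cases j <;> simp [Matrix.mul_apply, Fin.sum_univ_two]
  have hbb : b0 * b0 = -1 := by
    apply Subtype.ext
    show (!![r, s; s, -r] : M2) * !![r, s; s, -r] = -1
    ext i j
    fin_cases i <;> fin_cases j <;> simp [Matrix.mul_apply, Fin.sum_univ_two]
    · exact hrs
    · ring
    · ring
    · linear_combination hrs
  have hba : b0 * a0 = -(a0 * b0) := by
    apply Subtype.ext
    show (!![r, s; s, -r] : M2) * !![0, 1; -1, 0] = -(!![0, 1; -1, 0] * !![r, s; s, -r])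
    ext i j
    fin_cases i <;> fin_cases j <;> simp [Matrix.mul_apply, Fin.sum_univ_two]
  have hneg : ∀ x : S2, (pr (-x) : P2) = pr x := fun x =>
    Cfsg.Agent.H947.Sy.pr_eq_iff.2 (Or.inr (by rw [neg_neg]))
  have hpaa : (pr a0 : P2) * pr a0 = 1 := by rw [← map_mul, haa, hneg, map_one]
  have hpbb : (pr b0 : P2) * pr b0 = 1 := by rw [← map_mul, hbb, hneg, map_one]
  have hpba : (pr b0 : P2) * pr a0 = pr a0 * pr b0 := by rw [← map_mul, hba, hneg, map_mul]
  obtain ⟨g, hga, hgb⟩ : ∃ g : S2, (pr (g * a0 * g⁻¹) : P2) ∈ P ∧ (pr (g * b0 * g⁻¹) : P2) ∈ P := by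
    have hsup : IsPGroup 2 ((Subgroup.zpowers (pr a0 : P2)) ⊔ (Subgroup.zpowers (pr b0 : P2)) : Subgroup P2) := by
      refine (isPGroup_zpowers hpaa).to_sup_of_normal_right' (isPGroup_zpowers hpbb) ?_
      have hc : Commute (pr a0 : P2) (pr b0) := hpba.symm
      rw [Subgroup.zpowers_le, Subgroup.mem_normalizer_iff]
      intro n
      constructor
      · intro hn
        obtain ⟨k, rfl⟩ := Subgroup.mem_zpowers_iff.1 hn
        rw [(hc.zpow_right k).eq, mul_inv_cancel_right]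
        exact hn
      · intro hn
        obtain ⟨k, hk⟩ := Subgroup.mem_zpowers_iff.1 hn
        have h3 : n = (pr b0 : P2) ^ k := by
          have h4 : n = (pr a0 : P2)⁻¹ * (pr a0 * n * (pr a0)⁻¹) * pr a0 := by group
          rw [h4, ← hk, ((hc.symm.zpow_left k).inv_right).symm.eq, mul_assoc, inv_mul_cancel, mul_one]
        rw [h3]
        exact Subgroup.zpow_mem _ (Subgroup.mem_zpowers _) k
    obtain ⟨Q, hQ⟩ := hsup.exists_le_sylow
    obtain ⟨g, hg⟩ := MulAction.exists_smul_eq P2 Q P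
    obtain ⟨g, rfl⟩ := pr_surjective g
    have key : ∀ x : S2, pr x ∈ Q → pr (g * x * g⁻¹) ∈ P := by
      intro x hx
      rw [← hg, map_mul, map_mul, map_inv]
      exact ⟨pr x, hx, rfl⟩
    exact ⟨g, key _ (hQ (le_sup_left (a := Subgroup.zpowers (pr a0 : P2)) (Subgroup.mem_zpowers _))),
      key _ (hQ (le_sup_right (b := Subgroup.zpowers (pr b0 : P2)) (Subgroup.mem_zpowers _)))⟩
  set a : S2 := g * a0 * g⁻¹ with ha
  set b : S2 := g * b0 * g⁻¹ with hb
  have cc : ∀ x y : S2, g * x * g⁻¹ * (g * y * g⁻¹) = g * (x * y) * g⁻¹ := by intro x y; group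
  have cneg : ∀ x : S2, g * (-x) * g⁻¹ = -(g * x * g⁻¹) := by intro x; rw [mul_neg, neg_mul]
  have haa' : a * a = -1 := by rw [ha, cc, haa, cneg, mul_one, mul_inv_cancel]
  have hbb' : b * b = -1 := by rw [hb, cc, hbb, cneg, mul_one, mul_inv_cancel]
  have hba' : b * a = -(a * b) := by rw [ha, hb, cc, hba, cneg, cc]
  have hainv : a⁻¹ = -a := by
    rw [inv_eq_iff_mul_eq_one, mul_neg, haa', neg_neg]
  have hbinv : b⁻¹ = -b := by
    rw [inv_eq_iff_mul_eq_one, mul_neg, hbb', neg_neg]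
  have habm : a * b * a = b := by rw [mul_assoc, hba', mul_neg, ← mul_assoc, haa', neg_mul, one_mul, neg_neg]
  have hbab : b * a * b = a := by rw [hba', neg_mul, mul_assoc, hbb', mul_neg, mul_one, neg_neg]
  have hΦa : Φ a = a ∨ Φ a = -a := by
    have h3 := hfix _ hga
    rw [hpr] at h3
    rcases Cfsg.Agent.H947.Sy.pr_eq_iff.1 h3 with h4 | h4
    · exact Or.inl h4.symm
    · exact Or.inr (neg_eq_iff_eq_neg.1 h4.symm)
  have hΦb : Φ b = b ∨ Φ b = -b := by
    have h3 := hfix _ hgb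
    rw [hpr] at h3
    rcases Cfsg.Agent.H947.Sy.pr_eq_iff.1 h3 with h4 | h4
    · exact Or.inl h4.symm
    · exact Or.inr (neg_eq_iff_eq_neg.1 h4.symm)
  have haH : pr a ∈ H := hPH hga
  have hbH : pr b ∈ H := hPH hgb
  obtain ⟨u, huH, hua, hub⟩ : ∃ u : S2, pr u ∈ H ∧ Φ a = u⁻¹ * a * u ∧ Φ b = u⁻¹ * b * u := by
    rcases hΦa with h3 | h3 <;> rcases hΦb with h4 | h4
    · exact ⟨1, by rw [map_one]; exact H.one_mem, by rw [h3]; simp, by rw [h4]; simp⟩
    · refine ⟨a, haH, by rw [h3]; simp, ?_⟩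
      rw [h4, hainv, neg_mul, neg_mul, habm]
    · refine ⟨b, hbH, ?_, by rw [h4]; simp⟩
      rw [h3, hbinv, neg_mul, neg_mul, hbab]
    · refine ⟨a * b, by rw [map_mul]; exact H.mul_mem haH hbH, ?_, ?_⟩
      · have h5 : (a * b)⁻¹ * a * (a * b) = b⁻¹ * a * b := by group
        rw [h3, h5, hbinv, neg_mul, neg_mul, hbab]
      · have h5 : (a * b)⁻¹ * b * (a * b) = b⁻¹ * (a⁻¹ * b * a) * b := by group
        rw [h4, h5, hainv, neg_mul, neg_mul, habm, mul_neg, neg_mul, inv_mul_cancel, one_mul]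
  -- the main point
  have main : ∀ h : S2, pr h ∈ H → Φ h = u⁻¹ * h * u := by
    intro h hh
    have tr2 : ∀ y : S2, pr y ∈ H → Φ y = u⁻¹ * y * u →
        (((Φ h).1 - (u⁻¹ * h * u).1) * (Φ y).1).trace = 0 := by
      intro y hy hy1
      rw [Matrix.sub_mul, Matrix.trace_sub, sub_eq_zero]
      have h5 : ((Φ h).1 * (Φ y).1).trace = (h * y).1.trace := by
        have h6 : (Φ h).1 * (Φ y).1 = (Φ (h * y)).1 := by rw [map_mul]; rfl
        rw [h6, htr, hfixtr _ (by rw [map_mul]; exact H.mul_mem hh hy)]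
      have h7 : ((u⁻¹ * h * u).1 * (Φ y).1).trace = (h * y).1.trace := by
        have h8 : (u⁻¹ * h * u).1 * (Φ y).1 = (u⁻¹ * (h * y) * u).1 := by
          rw [hy1]
          have h9 : u⁻¹ * h * u * (u⁻¹ * y * u) = u⁻¹ * (h * y) * u := by group
          exact congrArg Subtype.val h9
        have h10 : (u⁻¹ * (h * y) * u).1 = (u⁻¹).1 * (h * y).1 * u.1 := rfl
        have h11 : u.1 * (u⁻¹).1 = 1 := congrArg Subtype.val (mul_inv_cancel u)
        rw [h8, h10, Matrix.trace_mul_comm, ← Matrix.mul_assoc, h11, Matrix.one_mul]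
      rw [h5, h7]
    have hab1 : Φ (a * b) = u⁻¹ * (a * b) * u := by
      rw [map_mul, hua, hub]; group
    have e0 := tr2 1 (by rw [map_one]; exact H.one_mem) (by rw [map_one]; group)
    have ea := tr2 a haH hua
    have eb := tr2 b hbH hub
    have eab := tr2 (a * b) (by rw [map_mul]; exact H.mul_mem haH hbH) hab1
    have z := zero_of_traces h2 hrs (u⁻¹ * g) ((Φ h).1 - (u⁻¹ * h * u).1) ?_ ?_ ?_ ?_
    · exact Subtype.ext (sub_eq_zero.1 z)
    · rw [map_one] at e0
      have : ((1 : S2)).1 = (1 : M2) := rfl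
      rwa [this, Matrix.mul_one] at e0
    · have h5 : (Φ a).1 = (u⁻¹ * g).1 * !![0, 1; -1, 0] * ((u⁻¹ * g)⁻¹).1 := by
        rw [hua, ha]
        have h6 : u⁻¹ * (g * a0 * g⁻¹) * u = (u⁻¹ * g) * a0 * (u⁻¹ * g)⁻¹ := by group
        exact congrArg Subtype.val h6
      rwa [h5] at ea
    · have h5 : (Φ b).1 = (u⁻¹ * g).1 * !![r, s; s, -r] * ((u⁻¹ * g)⁻¹).1 := by
        rw [hub, hb]
        have h6 : u⁻¹ * (g * b0 * g⁻¹) * u = (u⁻¹ * g) * b0 * (u⁻¹ * g)⁻¹ := by group
        exact congrArg Subtype.val h6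
      rwa [h5] at eb
    · have h5 : (Φ (a * b)).1 = (u⁻¹ * g).1 * (!![0, 1; -1, 0] * !![r, s; s, -r]) * ((u⁻¹ * g)⁻¹).1 := by
        rw [hab1, ha, hb]
        have h6 : u⁻¹ * (g * a0 * g⁻¹ * (g * b0 * g⁻¹)) * u = (u⁻¹ * g) * (a0 * b0) * (u⁻¹ * g)⁻¹ := by group
        exact congrArg Subtype.val h6
      rwa [h5] at eab
  have hle : H.map (φ : P2 ≃* P2).toMonoidHom ≤ H := by
    rintro _ ⟨y, hy, rfl⟩
    obtain ⟨h, rfl⟩ := pr_surjective y
    have h3 : (φ : P2 ≃* P2).toMonoidHom (pr h) = (pr u)⁻¹ * pr h * pr u := by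
      show φ (pr h) = _
      rw [hpr, main h hy, map_mul, map_mul, map_inv]
    rw [h3]
    exact H.mul_mem (H.mul_mem (H.inv_mem huH) hy) huH
  refine Subgroup.eq_of_le_of_card_ge hle ?_
  exact (Nat.card_congr (H.equivMapOfInjective _ φ.injective).toEquiv).le

end Main

section Row

theorem NAt.of_equiv {S : Type*} {S' : Type*} [Group S] [Group S'] [Finite S] (e : S ≃* S') {H : Subgroup S}
    (h : H165.RV.NAt (H.map e.toMonoidHom)) : H165.RV.NAt H := by
  intro P hPH φ hφ hfix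
  let P' : Sylow 2 S' := P.mapSurjective (f := e.toMonoidHom) e.surjective
  let φ' : MulAut S' := MulAut.congr e φ
  have hφ' : Odd (orderOf φ') := by
    have : orderOf φ' = orderOf φ := MulEquiv.orderOf_eq (MulAut.congr e) φ
    rwa [this]
  have hP' : (P' : Subgroup S') = (P : Subgroup S).map e.toMonoidHom := rfl
  have happ : ∀ x : S, φ' (e x) = e (φ x) := by
    intro x
    show e (φ (e.symm (e x))) = _
    rw [e.symm_apply_apply]
  obtain ⟨N, h1, h2, h3, h4⟩ := h P' (by rw [hP']; exact Subgroup.map_mono hPH) φ' hφ' (by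
    rintro x hx
    have hx' : x ∈ (P : Subgroup S).map e.toMonoidHom := hx
    obtain ⟨y, hy, rfl⟩ := hx'
    show φ' (e y) = e y
    rw [happ, hfix y hy])
  refine ⟨N.comap e.toMonoidHom, ?_, ?_, ?_, ?_⟩
  · intro h0
    apply h1
    rw [eq_bot_iff]
    intro n hn
    obtain ⟨m, rfl⟩ := e.surjective n
    have : m ∈ N.comap e.toMonoidHom := hn
    rw [h0, Subgroup.mem_bot] at this
    rw [this, map_one]
    exact Subgroup.mem_bot.2 rfl
  · intro x hx
    obtain ⟨y, hy, hyx⟩ := h2 hx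
    have : y = x := e.injective hyx
    rwa [← this]
  · intro x hx n hn
    have := h3 (e x) ⟨x, hx, rfl⟩ (e n) hn
    show e (x * n * x⁻¹) ∈ N
    rw [map_mul, map_mul, map_inv]
    exact this
  · ext x
    constructor
    · rintro ⟨y, hy, rfl⟩
      show e (φ y) ∈ N
      rw [← happ, ← h4]
      exact ⟨e y, hy, rfl⟩
    · intro hx
      have hx' : e x ∈ N := hx
      rw [← h4] at hx'
      obtain ⟨n, hn, hnx⟩ := hx'
      obtain ⟨m, rfl⟩ := e.surjective n
      have h5 : e (φ m) = e x := by rw [← happ]; exact hnx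
      exact ⟨m, hn, e.injective h5⟩

theorem IsPiHall.map_equiv {S : Type*} {S' : Type*} [Group S] [Group S'] (e : S ≃* S') {π : Set ℕ} {H : Subgroup S}
    (h : Cfsg.IsPiHall π H) : Cfsg.IsPiHall π (H.map e.toMonoidHom) := by
  refine ⟨?_, ?_⟩
  · intro p hp hd
    refine h.1 p hp ?_
    rwa [← Nat.card_congr (H.equivMapOfInjective e.toMonoidHom e.injective).toEquiv] at hd
  · intro p hp hpπ hd
    refine h.2 p hp hpπ ?_
    have h1 : (H.map e.toMonoidHom).index = H.index := Subgroup.index_map_equiv H e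
    rwa [h1] at hd

theorem NRow.of_equiv {S : Type*} {S' : Type*} [Group S] [Group S'] [Finite S] (e : S ≃* S') {π : Set ℕ}
    (h : H165.RV.NRow π S') : H165.RV.NRow π S :=
  fun _ hH => NAt.of_equiv e (h _ (IsPiHall.map_equiv e hH))

/-- **`NRow` for `PSL_2(q)`, `q` odd, `p ∉ π`, `2 ∈ π`.** -/
theorem nRow_psl2 {S : Type*} [Group S] [Finite S] {F : Type} [Field F] [Fintype F]
    (e : S ≃* Matrix.ProjectiveSpecialLinearGroup (Fin 2) F) {p : ℕ} [hpp : Fact p.Prime] [CharP F p] {π : Set ℕ}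
    (h2 : 2 ∈ π) (hp : p ∉ π) : H165.RV.NRow π S := by
  refine NRow.of_equiv e ?_
  intro H hH
  have hp2 : p ≠ 2 := by rintro rfl; exact hp h2
  have hodd : Odd (Fintype.card F) := by
    obtain ⟨n, -, hn⟩ := FiniteField.card F p
    rw [hn]
    exact (hpp.out.odd_of_ne_two hp2).pow
  have htwo : (2 : F) ≠ 0 := by
    intro h
    have h1 : ((2 : ℕ) : F) = 0 := by exact_mod_cast h
    rw [CharP.cast_eq_zero_iff F p] at h1
    rcases (Nat.dvd_prime Nat.prime_two).1 h1 with h3 | h3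
    · exact hpp.out.one_lt.ne' h3
    · exact hp2 h3
  rcases hasTwo_or_alt (p := p) hodd H (hH.2 2 Nat.prime_two h2) (fun hd => hp (hH.1 p hpp.out hd)) with h | ⟨⟨e'⟩⟩
  · exact h.nAt
  · exact nAt_alt (p := p) htwo H e'

end Row

end Cfsg.Agent.H563.RV
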