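import Cfsg.Agent.H563.RV.Lin
import Cfsg.Agent.LieClassical.SympCenter

/-!
# `p'`-subgroups of odd index of `PSp_2m(q)`, `q` odd, `m ≥ 2`, have a nontrivial `2`-core (helper563)

`y` of order `4` in an `SL_2(q)` of a hyperbolic plane: `(y - 1)(y - i)` has rank `1`, and `t = y ^ 2` inverts no element
`x ≠ 1` of odd order with `rank (x - 1) ≤ 2`.
-/

set_option autoImplicit false

namespace Cfsg.Agent.H563.RV

open Cfsg Module Polynomial Matrix

section Inv

variable {K : Type*} [Field K] {V : Type*} [AddCommGroup V] [Module K V] [FiniteDimensional K V]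

/-- A symplectic involution `t` inverts no symplectic `x` of odd order (prime to the characteristic) with
`rank (x - 1) ≤ 2`. -/
theorem inv_trivial (h2 : (2 : K) ≠ 0) (B : V →ₗ[K] V →ₗ[K] K) (halt : ∀ v, B v v = 0)
    (hnd : ∀ v, (∀ w, B w v = 0) → v = 0) {x x' t : Module.End K V} (hx : ∀ v w, B (x v) (x w) = B v w)
    (ht : ∀ v w, B (t v) (t w) = B v w) (hxx : x * x' = 1) (hxx' : x' * x = 1) (htt : t * t = 1)
    (hinv : t * x = x' * t) {N : ℕ} (hN : Odd N) (hNK : (N : K) ≠ 0) (hxN : x ^ N = 1)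
    (hr : finrank K (LinearMap.range (x - 1)) ≤ 2) : x = 1 := by
  have xx' : ∀ v, x (x' v) = v := fun v => LinearMap.congr_fun hxx v
  have x'x : ∀ v, x' (x v) = v := fun v => LinearMap.congr_fun hxx' v
  have tt : ∀ v, t (t v) = v := fun v => LinearMap.congr_fun htt v
  have tx : ∀ v, t (x v) = x' (t v) := fun v => LinearMap.congr_fun hinv v
  set U := LinearMap.range (x - 1) with hU
  have skew : ∀ v w, B v w = - B w v := by
    intro v w
    have h1 := halt (v + w)
    simp only [map_add, LinearMap.add_apply, halt, zero_add, add_zero] at h1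
    linear_combination h1
  -- (b)
  have hb : ∀ w, (∀ u ∈ U, B u w = 0) → x w = w := by
    intro w hw
    have h1 : x' w - w = 0 := by
      apply hnd
      intro v
      have h3 := hw ((x - 1) v) ⟨v, rfl⟩
      rw [LinearMap.sub_apply, Module.End.one_apply, map_sub, LinearMap.sub_apply] at h3
      have h4 : B (x v) w = B v (x' w) := by
        conv_lhs => rw [← xx' w]
        rw [hx]
      rw [map_sub, ← h4, h3]
    have h2 : x' w = w := sub_eq_zero.1 h1
    conv_lhs => rw [← h2]
    rw [xx']
  -- (c)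
  have hc : ∀ u ∈ U, x u = u → u = 0 := by
    rintro _ ⟨v, rfl⟩ hu
    set u := (x - 1) v with hu0
    have h1 : x v = v + u := by rw [hu0, LinearMap.sub_apply, Module.End.one_apply]; abel
    have h3 : ∀ k : ℕ, (x ^ k) v = v + (k : K) • u := by
      intro k
      induction k with
      | zero => simp
      | succ k ih =>
        rw [pow_succ', Module.End.mul_apply, ih, map_add, map_smul, hu, h1, Nat.cast_succ, add_smul, one_smul]
        abel
    have h4 := h3 N
    rw [hxN, Module.End.one_apply] at h4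
    have h5 : (N : K) • u = 0 := by
      have := h4.symm
      simpa using this
    exact (smul_eq_zero.1 h5).resolve_left hNK
  -- (d)
  have hd : ∀ u ∈ U, t u ∈ U := by
    rintro _ ⟨v, rfl⟩
    refine ⟨-(x' (t v)), ?_⟩
    rw [LinearMap.sub_apply, Module.End.one_apply, map_neg, xx', LinearMap.sub_apply, Module.End.one_apply, map_sub, tx]
    abel
  have hxU : ∀ u ∈ U, x u ∈ U := by
    rintro _ ⟨v, rfl⟩
    refine ⟨x v, ?_⟩
    rw [LinearMap.sub_apply, LinearMap.sub_apply, map_sub]
    rfl
  -- (e)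
  have he : ∀ a b, t a = a → t b = -b → B a b = 0 := by
    intro a b ha hb'
    have h1 := ht a b
    rw [ha, hb', map_neg] at h1
    have h3 : (2 : K) * B a b = 0 := by linear_combination -h1
    exact (mul_eq_zero.1 h3).resolve_left h2
  -- (f)
  have hf : ∀ a ∈ U, ∀ b ∈ U, t a = a → t b = -b → a = 0 ∨ b = 0 := by
    intro a haU b hbU ha hb'
    by_contra hcon
    push Not at hcon
    obtain ⟨ha0, hb0⟩ := hcon
    have hli : LinearIndependent K ![a, b] := by
      rw [LinearIndependent.pair_iff]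
      intro r s hrs
      have h3 := congrArg t hrs
      rw [map_add, map_smul, map_smul, ha, hb', map_zero, smul_neg] at h3
      have h4 : (2 * r) • a = 0 := by
        have : (r • a + s • b) + (r • a + -(s • b)) = 0 := by rw [hrs, h3, add_zero]
        rw [mul_smul, two_smul]
        rw [← this]; abel
      have h5 : r = 0 := by
        rcases smul_eq_zero.1 h4 with h6 | h6
        · exact (mul_eq_zero.1 h6).resolve_left h2
        · exact absurd h6 ha0
      rw [h5, zero_smul, zero_add] at hrs
      exact ⟨h5, (smul_eq_zero.1 hrs).resolve_right hb0⟩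
    have hle : Submodule.span K {a, b} ≤ U := by
      rw [Submodule.span_le]
      intro z hz
      rcases hz with rfl | hz
      · exact haU
      · rw [Set.mem_singleton_iff.1 hz]; exact hbU
    have hfr : finrank K (Submodule.span K {a, b}) = 2 := by
      have h3 := finrank_span_eq_card hli
      rw [Matrix.range_cons, Matrix.range_cons, Matrix.range_empty, Set.union_empty, Set.singleton_union] at h3
      simpa using h3
    have heq : Submodule.span K {a, b} = U := Submodule.eq_of_le_of_finrank_le hle (by rw [hfr]; exact hr)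
    have h3 : ∀ u ∈ U, B u a = 0 := by
      intro u hu
      rw [← heq, Submodule.mem_span_pair] at hu
      obtain ⟨r, s, rfl⟩ := hu
      rw [map_add, map_smul, map_smul, LinearMap.add_apply, LinearMap.smul_apply, LinearMap.smul_apply, halt,
        skew b a, he a b ha hb', neg_zero, smul_zero, smul_zero, add_zero]
    exact ha0 (hc a haU (hb a h3))
  -- (g)
  have hg : (∀ u ∈ U, t u = u) ∨ (∀ u ∈ U, t u = -u) := by
    by_contra hcon
    push Not at hcon
    obtain ⟨⟨u, hu, hu1⟩, ⟨w, hw, hw1⟩⟩ := hcon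
    have h3 := hf (w + t w) (U.add_mem hw (hd w hw)) (u - t u) (U.sub_mem hu (hd u hu))
      (by rw [map_add, tt, add_comm]) (by rw [map_sub, tt, neg_sub])
    rcases h3 with h4 | h4
    · exact hw1 (eq_neg_of_add_eq_zero_right h4)
    · exact hu1 (sub_eq_zero.1 h4).symm
  -- (h)
  have hh : ∀ u ∈ U, x (x u) = u := by
    intro u hu
    have h3 : x u = x' u := by
      rcases hg with h4 | h4
      · have := tx u
        rw [h4 _ (hxU u hu), h4 u hu] at this
        exact this
      · have := tx u
        rw [h4 _ (hxU u hu), h4 u hu, map_neg] at this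
        exact neg_injective this
    rw [h3, xx']
  -- (i)
  have hi : ∀ u ∈ U, x u = u := by
    intro u hu
    obtain ⟨k, hk⟩ := hN
    have h3 : ∀ j : ℕ, (x ^ (2 * j)) u = u := by
      intro j
      induction j with
      | zero => simp
      | succ j ih =>
        rw [show 2 * (j + 1) = 2 * j + 2 from by ring, pow_add, Module.End.mul_apply, pow_two, Module.End.mul_apply,
          hh u hu, ih]
    have h4 : x ^ (2 * (k + 1)) = x := by
      rw [show 2 * (k + 1) = N + 1 from by omega, pow_succ, hxN, one_mul]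
    have h5 := h3 (k + 1)
    rwa [h4] at h5
  have hU0 : U = ⊥ := by
    rw [Submodule.eq_bot_iff]
    intro u hu
    exact hc u hu (hi u hu)
  rw [hU, LinearMap.range_eq_bot] at hU0
  exact sub_eq_zero.1 hU0

end Inv

section Mat

variable {K : Type*} [Field K] {m : ℕ}

/-- `E_00` -/
def E0 (K : Type*) [Field K] (m : ℕ) [NeZero m] : Matrix (Fin m) (Fin m) K := Matrix.single 0 0 1

theorem E0_mul [NeZero m] : E0 K m * E0 K m = E0 K m := by
  rw [E0, Matrix.single_mul_single_same, one_mul]

theorem E0_transpose [NeZero m] : (E0 K m)ᵀ = E0 K m := by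
  rw [E0, Matrix.transpose_single]

/-- the element of order 4 -/
def Y (K : Type*) [Field K] (m : ℕ) [NeZero m] : Matrix (Fin m ⊕ Fin m) (Fin m ⊕ Fin m) K :=
  fromBlocks (1 - E0 K m) (-E0 K m) (E0 K m) (1 - E0 K m)

theorem Y_mem [NeZero m] : Y K m ∈ Matrix.symplecticGroup (Fin m) K := by
  rw [SymplecticGroup.mem_iff, Y, Matrix.J, fromBlocks_transpose, fromBlocks_multiply, fromBlocks_multiply]
  simp only [transpose_sub, transpose_neg, transpose_one, E0_transpose, mul_zero, mul_one, zero_add, add_zero, mul_neg,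
    mul_sub, sub_mul, one_mul, neg_mul, neg_neg, E0_mul]
  congr 1 <;> abel

theorem Y_sq [NeZero m] : Y K m * Y K m = fromBlocks (1 - 2 • E0 K m) 0 0 (1 - 2 • E0 K m) := by
  rw [Y, fromBlocks_multiply]
  simp only [mul_one, mul_neg, mul_sub, sub_mul, one_mul, neg_mul, E0_mul]
  congr 1 <;> abel

theorem Y_four [NeZero m] : Y K m * Y K m * (Y K m * Y K m) = 1 := by
  rw [Y_sq, fromBlocks_multiply, ← fromBlocks_one]
  simp only [mul_one, mul_zero, zero_mul, add_zero, zero_add, mul_sub, sub_mul, one_mul, nsmul_eq_mul, Nat.cast_ofNat]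
  have h : (2 : Matrix (Fin m) (Fin m) K) * E0 K m * (2 * E0 K m) = 4 * E0 K m := by
    have h1 : (2 : Matrix (Fin m) (Fin m) K) * E0 K m = 2 • E0 K m := by rw [nsmul_eq_mul]; rfl
    rw [h1, smul_mul_smul_comm, E0_mul, nsmul_eq_mul]
    norm_num
  rw [h]
  congr 1 <;> noncomm_ring

theorem Y_rank [NeZero m] {i : K} (hi : i * i = -1) :
    ((Y K m - 1) * (Y K m - algebraMap K _ i)).rank ≤ 1 := by
  have h1 : (Y K m - 1) * (Y K m - algebraMap K _ i) =
      fromBlocks ((i - 1) • E0 K m) ((1 + i) • E0 K m) (-((1 + i) • E0 K m)) ((i - 1) • E0 K m) := by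
    have h2 : Y K m - 1 = fromBlocks (-E0 K m) (-E0 K m) (E0 K m) (-E0 K m) := by
      rw [Y, ← fromBlocks_one, sub_eq_add_neg, fromBlocks_neg, fromBlocks_add]
      congr 1 <;> abel
    have h3 : Y K m - algebraMap K _ i =
        fromBlocks ((1 - i) • 1 - E0 K m) (-E0 K m) (E0 K m) ((1 - i) • 1 - E0 K m) := by
      have h4 : (algebraMap K (Matrix (Fin m ⊕ Fin m) (Fin m ⊕ Fin m) K) i) = fromBlocks (i • 1) 0 0 (i • 1) := by
        rw [Algebra.algebraMap_eq_smul_one, ← fromBlocks_one, fromBlocks_smul]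
        simp
      rw [Y, h4, sub_eq_add_neg, fromBlocks_neg, fromBlocks_add, sub_smul, one_smul]
      congr 1 <;> abel
    rw [h2, h3, fromBlocks_multiply]
    simp only [mul_sub, mul_smul_comm, mul_one, neg_mul, mul_neg, E0_mul, neg_neg]
    congr 1 <;> module
  have h5 : (Y K m - 1) * (Y K m - algebraMap K _ i) =
      Matrix.vecMulVec (Sum.elim (Pi.single 0 1) (Pi.single 0 i)) (Sum.elim (Pi.single 0 (i - 1)) (Pi.single 0 (1 + i))) := by
    rw [h1]
    ext a b
    rw [Matrix.vecMulVec_apply]
    rcases a with a | a <;> rcases b with b | b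
    · rw [fromBlocks_apply₁₁, Sum.elim_inl, Sum.elim_inl, Matrix.smul_apply, E0, Matrix.single_apply]
      simp only [Pi.single_apply]
      split_ifs <;> simp_all
    · rw [fromBlocks_apply₁₂, Sum.elim_inl, Sum.elim_inr, Matrix.smul_apply, E0, Matrix.single_apply]
      simp only [Pi.single_apply]
      split_ifs <;> simp_all
    · rw [fromBlocks_apply₂₁, Sum.elim_inr, Sum.elim_inl, Matrix.neg_apply, Matrix.smul_apply, E0, Matrix.single_apply]
      simp only [Pi.single_apply]
      split_ifs <;> simp_all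
      linear_combination -hi
    · rw [fromBlocks_apply₂₂, Sum.elim_inr, Sum.elim_inr, Matrix.smul_apply, E0, Matrix.single_apply]
      simp only [Pi.single_apply]
      split_ifs <;> simp_all
      linear_combination -hi
  rw [h5]
  exact Matrix.rank_vecMulVec_le _ _

/-- the invariant form -/
def frm (K : Type*) [Field K] (m : ℕ) : (Fin m ⊕ Fin m → K) →ₗ[K] (Fin m ⊕ Fin m → K) →ₗ[K] K :=
  Matrix.toLinearMap₂' K (Matrix.J (Fin m) K)

theorem frm_apply (v w : Fin m ⊕ Fin m → K) :
    frm K m v w = ∑ i, (v (Sum.inr i) * w (Sum.inl i) - v (Sum.inl i) * w (Sum.inr i)) := by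
  rw [frm, Matrix.toLinearMap₂'_apply']
  have h : (Matrix.J (Fin m) K) *ᵥ w = Sum.elim (fun i => - w (Sum.inr i)) (fun i => w (Sum.inl i)) := by
    rw [Matrix.J, ← Sum.elim_comp_inl_inr w, fromBlocks_mulVec]
    simp only [zero_mulVec, one_mulVec, neg_mulVec, zero_add, add_zero, Sum.elim_comp_inl, Sum.elim_comp_inr]
    rfl
  rw [h, dotProduct, Fintype.sum_sum_type, ← Finset.sum_add_distrib]
  refine Finset.sum_congr rfl fun i _ => ?_
  simp
  ring

theorem frm_pres {A : Matrix (Fin m ⊕ Fin m) (Fin m ⊕ Fin m) K} (hA : A ∈ Matrix.symplecticGroup (Fin m) K)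
    (v w : Fin m ⊕ Fin m → K) : frm K m (A *ᵥ v) (A *ᵥ w) = frm K m v w := by
  rw [frm, Matrix.toLinearMap₂'_apply', Matrix.toLinearMap₂'_apply']
  have h := SymplecticGroup.mem_iff'.1 hA
  rw [← vecMul_transpose A v, ← dotProduct_mulVec, mulVec_mulVec, mulVec_mulVec, h]

theorem frm_alt (v : Fin m ⊕ Fin m → K) : frm K m v v = 0 := by
  rw [frm_apply]
  exact Finset.sum_eq_zero fun i _ => by ring

theorem frm_nondeg (v : Fin m ⊕ Fin m → K) (h : ∀ w, frm K m w v = 0) : v = 0 := by
  classical
  funext i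
  rcases i with i | i
  · have h1 := h (Pi.single (Sum.inr i) 1)
    rw [frm_apply, Finset.sum_eq_single i] at h1
    · simpa using h1
    · intro j _ hj
      simp [hj]
    · intro h2
      exact absurd (Finset.mem_univ i) h2
  · have h1 := h (Pi.single (Sum.inl i) 1)
    rw [frm_apply, Finset.sum_eq_single i] at h1
    · simpa using h1
    · intro j _ hj
      simp [hj]
    · intro h2
      exact absurd (Finset.mem_univ i) h2

end Mat

/-- the natural representation of a group of matrices -/
def natRep' {F : Type*} [Field F] {ι : Type*} [Fintype ι] [DecidableEq ι] {G : Type*} [Group G]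
    (M : G →* Matrix ι ι F) : Representation F G (ι → F) :=
  (Matrix.toLinAlgEquiv' (R := F) (n := ι) : Matrix ι ι F →* Module.End F (ι → F)).comp M

theorem natRep'_aeval {F : Type*} [Field F] {ι : Type*} [Fintype ι] [DecidableEq ι] {G : Type*} [Group G]
    (M : G →* Matrix ι ι F) (x : G) (g : F[X]) :
    aeval (natRep' M x) g = Matrix.toLinAlgEquiv' (aeval (M x) g) :=
  aeval_algHom_apply (Matrix.toLinAlgEquiv' (R := F) (n := ι)).toAlgHom (M x) g

theorem exists_i (F : Type) [Field F] [Finite F] : ∃ (K : Type) (_ : Field K) (_ : Finite K) (_ : Algebra F K) (i : K),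
    i * i = -1 := by
  let f : F[X] := X ^ 2 + 1
  have hfin : Finite f.SplittingField := Module.finite_of_finite F
  have hdeg : (f.map (algebraMap F f.SplittingField)).degree ≠ 0 := by
    rw [degree_map]
    have : f.degree = 2 := by
      show (X ^ 2 + 1 : F[X]).degree = 2
      rw [← C_1]
      exact degree_X_pow_add_C (by norm_num) 1
    rw [this]
    norm_num
  obtain ⟨i, hi⟩ := (SplittingField.splits f).exists_eval_eq_zero hdeg
  refine ⟨f.SplittingField, inferInstance, hfin, inferInstance, i, ?_⟩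
  have h1 : i ^ 2 + 1 = 0 := by simpa [f] using hi
  linear_combination h1

/-- **`PSp_2m(q)`, `m ≥ 2`, `q` odd.** -/
theorem hasTwo_sp {S : Type*} [Group S] {m : ℕ} {F : Type} [Field F] [Fintype F] (e : S ≃* Cfsg.PSp m F) (hm : 2 ≤ m)
    {p : ℕ} [hpp : Fact p.Prime] [CharP F p] (hp2 : p ≠ 2) {H : Subgroup S} (h2 : ¬ 2 ∣ H.index)
    (hp : ¬ p ∣ Nat.card H) : HasTwo H := by
  have hm0 : NeZero m := ⟨by omega⟩
  obtain ⟨K, hK, hKf, hKa, i, hi⟩ := exists_i F
  have hKp : CharP K p := charP_of_injective_algebraMap (algebraMap F K).injective p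
  have htwoF : (2 : F) ≠ 0 := by
    intro h
    have h1 : ((2 : ℕ) : F) = 0 := by exact_mod_cast h
    rw [CharP.cast_eq_zero_iff F p] at h1
    rcases (Nat.dvd_prime Nat.prime_two).1 h1 with h3 | h3
    · exact hpp.out.one_lt.ne' h3
    · exact hp2 h3
  have htwoK : (2 : K) ≠ 0 := by
    intro h
    apply htwoF
    apply (algebraMap F K).injective
    rw [map_ofNat, map_zero]
    exact h
  let G := Matrix.symplecticGroup (Fin m) F
  let π : G →* S := (e.symm : Cfsg.PSp m F →* S).comp (QuotientGroup.mk' (Subgroup.center G))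
  have hπ : Function.Surjective π := e.symm.surjective.comp (QuotientGroup.mk'_surjective _)
  have hker : ∀ y : G, π y = 1 → ∃ c : F, (y : Matrix (Fin m ⊕ Fin m) (Fin m ⊕ Fin m) F) = c • 1 := by
    intro y hy
    have h1 : (QuotientGroup.mk' (Subgroup.center G)) y = 1 := by
      apply e.symm.injective
      rw [map_one]
      exact hy
    have h3 : y ∈ Subgroup.center G := (QuotientGroup.eq_one_iff y).1 h1
    exact (LieClassical.SympCenter.mem_center_iff m y).1 h3
  let R : G →* Matrix (Fin m ⊕ Fin m) (Fin m ⊕ Fin m) K :=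
    (((algebraMap F K).mapMatrix : Matrix (Fin m ⊕ Fin m) (Fin m ⊕ Fin m) F →+* _) : _ →* _).comp
      (Submonoid.subtype (Matrix.symplecticGroup (Fin m) F))
  have hRinj : ∀ y : G, R y = 1 → y = 1 := by
    intro y hy
    apply Subtype.ext
    apply Matrix.map_injective (algebraMap F K).injective
    refine hy.trans ?_
    exact ((algebraMap F K).mapMatrix.map_one).symm
  have hRmem : ∀ y : G, R y ∈ Matrix.symplecticGroup (Fin m) K := by
    intro y
    have h1 := congrArg (fun M : Matrix _ _ F => M.map (algebraMap F K)) (SymplecticGroup.mem_iff.1 y.2)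
    rw [SymplecticGroup.mem_iff]
    have hJ : (Matrix.J (Fin m) F).map (algebraMap F K) = Matrix.J (Fin m) K := by
      rw [Matrix.J, Matrix.J, fromBlocks_map]
      congr 1
      · exact Matrix.map_zero _ (map_zero _)
      · ext a b; simp [Matrix.one_apply]
      · exact Matrix.map_one _ (map_zero _) (map_one _)
      · exact Matrix.map_zero _ (map_zero _)
    have h3 : ((y : Matrix (Fin m ⊕ Fin m) (Fin m ⊕ Fin m) F) * Matrix.J (Fin m) F *
        (y : Matrix (Fin m ⊕ Fin m) (Fin m ⊕ Fin m) F)ᵀ).map (algebraMap F K) = R y * Matrix.J (Fin m) K * (R y)ᵀ := by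
      rw [Matrix.map_mul, Matrix.map_mul, hJ]
      rfl
    rw [← h3]
    exact h1.trans hJ
  let x : G := ⟨Y F m, Y_mem⟩
  have hRx : R x = Y K m := by
    show (Y F m).map (algebraMap F K) = Y K m
    have hE : (E0 F m).map (algebraMap F K) = E0 K m := by
      rw [E0, E0]
      ext a b
      rw [Matrix.map_apply, Matrix.single_apply, Matrix.single_apply]
      split_ifs <;> simp
    rw [Y, Y, fromBlocks_map, ← hE]
    congr 1
    · rw [Matrix.map_sub _ (fun a b => map_sub _ a b), Matrix.map_one _ (map_zero _) (map_one _)]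
    · ext a b; simp
    · rw [Matrix.map_sub _ (fun a b => map_sub _ a b), Matrix.map_one _ (map_zero _) (map_one _)]
  refine hasTwo_of_rank (p := p) π hπ (natRep' R) (fun y hy => ?_) (fun y hy => ?_) h2 hp (x := x)
    (g := (X - C 1) * (X - C i)) (mul_ne_zero (X_sub_C_ne_zero _) (X_sub_C_ne_zero _)) (j := 1) (r := 1) ?_ ?_ ?_ ?_ ?_
  · exact hRinj y ((Matrix.toLinAlgEquiv' (R := K)).injective (hy.trans (map_one _).symm))
  · obtain ⟨c, hc⟩ := hker y hy
    refine ⟨algebraMap F K c, ?_⟩
    show Matrix.toLinAlgEquiv' (R y) = _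
    have h1 : R y = (algebraMap F K c) • 1 := by
      show (y : Matrix (Fin m ⊕ Fin m) (Fin m ⊕ Fin m) F).map (algebraMap F K) = _
      rw [hc]
      ext a b
      rw [Matrix.map_apply, Matrix.smul_apply, Matrix.smul_apply, Matrix.one_apply, Matrix.one_apply]
      split_ifs <;> simp
    rw [h1, map_smul, map_one]
  · refine natDegree_mul_le.trans ?_
    rw [natDegree_X_sub_C, natDegree_X_sub_C]
    norm_num
  · rw [natRep'_aeval, hRx, map_mul, map_sub (aeval _), map_sub (aeval _), aeval_X, aeval_C, aeval_C, map_one]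
    exact Y_rank hi
  · apply Subtype.ext
    show (Y F m) ^ 4 = 1
    rw [show 4 = 2 + 2 from rfl, pow_add, pow_two, Y_four]
  · intro z hz hzp hzt hzr
    have h3 : natRep' R z = 1 := by
      have htt : x ^ 2 ^ 1 * x ^ 2 ^ 1 = 1 := by
        apply Subtype.ext
        show (Y F m) ^ 2 * (Y F m) ^ 2 = 1
        rw [pow_two, Y_four]
      refine inv_trivial htwoK (frm K m) frm_alt frm_nondeg (x' := natRep' R z⁻¹) (t := natRep' R (x ^ 2 ^ 1))
        (fun v w => frm_pres (hRmem z) v w) (fun v w => frm_pres (hRmem _) v w) ?_ ?_ ?_ ?_ (N := orderOf z) hz ?_ ?_ hzr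
      · rw [← map_mul, mul_inv_cancel, map_one]
      · rw [← map_mul, inv_mul_cancel, map_one]
      · rw [← map_mul, htt, map_one]
      · rw [← map_mul, ← map_mul, ← hzt, inv_mul_cancel_right]
      · rwa [Ne, CharP.cast_eq_zero_iff K p]
      · rw [← map_pow, pow_orderOf_eq_one, map_one]
    exact hRinj z ((Matrix.toLinAlgEquiv' (R := K)).injective (h3.trans (map_one _).symm))
  · intro h0
    obtain ⟨c, hc⟩ := hker _ h0
    have h3 : ((x ^ 2 ^ 1 : G) : Matrix (Fin m ⊕ Fin m) (Fin m ⊕ Fin m) F) = Y F m * Y F m := by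
      show (Y F m) ^ 2 = _
      rw [pow_two]
    rw [h3, Y_sq] at hc
    have h4 := congrFun (congrFun hc (Sum.inl 0)) (Sum.inl 0)
    have h5 := congrFun (congrFun hc (Sum.inl ⟨1, by omega⟩)) (Sum.inl ⟨1, by omega⟩)
    have h6 : (0 : Fin m) ≠ ⟨1, by omega⟩ := by
      intro h
      have := congrArg Fin.val h
      simp at this
    rw [fromBlocks_apply₁₁, Matrix.sub_apply, Matrix.smul_apply, E0, Matrix.single_apply_same, Matrix.one_apply_eq,
      Matrix.smul_apply, Matrix.one_apply_eq] at h4
    rw [fromBlocks_apply₁₁, Matrix.sub_apply, Matrix.smul_apply, E0, Matrix.single_apply_of_ne _ _ _ _ _ (by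
      rintro ⟨h7, -⟩; exact h6 h7), Matrix.one_apply_eq, Matrix.smul_apply, Matrix.one_apply_eq] at h5
    apply htwoF
    simp only [smul_eq_mul, nsmul_eq_mul, Nat.cast_ofNat, mul_one, mul_zero, sub_zero] at h4 h5
    linear_combination h5 - h4

/-- **`NRow` for `PSp_2m(q)`, `m ≥ 2`, `q` odd, `p ∉ π`, `2 ∈ π`.** -/
theorem nRow_sp {S : Type*} [Group S] [Finite S] {m : ℕ} {F : Type} [Field F] [Fintype F] (e : S ≃* Cfsg.PSp m F)
    (hm : 2 ≤ m) {p : ℕ} [hpp : Fact p.Prime] [CharP F p] {π : Set ℕ} (h2 : 2 ∈ π) (hp : p ∉ π) :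
    H165.RV.NRow π S := by
  intro H hH
  refine HasTwo.nAt (hasTwo_sp (p := p) e hm ?_ ?_ ?_)
  · rintro rfl
    exact hp h2
  · exact hH.2 2 Nat.prime_two h2
  · exact fun hd => hp (hH.1 p hpp.out hd)

end Cfsg.Agent.H563.RV
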