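import Cfsg.Agent.H408.Hall.MTwo
import Cfsg.Agent.H165.RV.Defs
import Cfsg.Agent.OddOrderLocal.PLengthOne

/-!
# Normal 2-subgroups of subgroups of odd index in quotients of linear groups (helper563)

`f : G → S` surjective with scalar kernel (in a faithful representation `σ` of `G` in characteristic `p`), `H ≤ S` of odd
index and of order prime to `p`. If `G` has a 2-element `x` annihilated by a polynomial of degree at most `2 ^ j` with
`f x ^ 2 ^ j ≠ 1`, then `O_2(H) ≠ 1`; the same with the rank condition `MTwo.mem_pCore_of_rank`.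
-/

set_option autoImplicit false

namespace Cfsg.Agent.H563.RV

open Cfsg Module Polynomial

universe u

/-- `H` has a nontrivial normal `2`-subgroup. -/
def HasTwo {S : Type*} [Group S] (H : Subgroup S) : Prop :=
  ∃ N : Subgroup S, N ≠ ⊥ ∧ N ≤ H ∧ IsPGroup 2 N ∧ ∀ h ∈ H, ∀ n ∈ N, h * n * h⁻¹ ∈ N

theorem HasTwo.nAt {S : Type u} [Group S] [Finite S] {H : Subgroup S} (h : HasTwo H) : H165.RV.NAt H := by
  obtain ⟨N, h1, h2, h3, h4⟩ := h
  exact H165.RV.NAt.of_isPGroup h1 h2 h3 h4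

theorem exists_conj_mem {G : Type*} [Group G] [Finite G] {K : Subgroup G} (hK : ¬ 2 ∣ K.index) {x : G}
    (hx : ∃ i : ℕ, x ^ 2 ^ i = 1) : ∃ c : G, c⁻¹ * x * c ∈ K := by
  have h1 : IsPGroup 2 (Subgroup.zpowers x) := by
    rintro ⟨y, hy⟩
    obtain ⟨k, rfl⟩ := hy
    obtain ⟨i, hi⟩ := hx
    refine ⟨i, ?_⟩
    apply Subtype.ext
    rw [Subgroup.coe_pow, Subgroup.coe_one]
    show (x ^ k) ^ 2 ^ i = 1
    rw [← zpow_natCast, ← zpow_mul, mul_comm, zpow_mul, zpow_natCast, hi, one_zpow]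
  have h2 : ¬ 2 ∣ Nat.card (G ⧸ K) := hK
  obtain ⟨a, ha⟩ := h1.nonempty_fixed_point_of_prime_not_dvd_card (G ⧸ K) h2
  obtain ⟨c, rfl⟩ := QuotientGroup.mk_surjective a
  refine ⟨c, ?_⟩
  have h3 := ha ⟨x, Subgroup.mem_zpowers x⟩
  have h4 : (QuotientGroup.mk (x * c) : G ⧸ K) = QuotientGroup.mk c := h3
  rw [QuotientGroup.eq] at h4
  have h5 := K.inv_mem h4
  simpa [mul_assoc] using h5

theorem HasTwo.push {G : Type*} {S : Type*} [Group G] [Finite G] [Group S] (f : G →* S) (hf : Function.Surjective f)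
    (H : Subgroup S) {y : H.comap f} (hy : y ∈ Cfsg.pCore 2 (H.comap f)) (hy1 : f y ≠ 1) : HasTwo H := by
  have hp : IsPGroup 2 (Cfsg.pCore 2 (H.comap f)) := Cfsg.Agent.OddOrderLocal.PLengthOne.isPGroup_pCore 2
  refine ⟨(Cfsg.pCore 2 (H.comap f)).map (f.comp (H.comap f).subtype), ?_, ?_, hp.map _, ?_⟩
  · intro h0
    have h1 : f y ∈ (Cfsg.pCore 2 (H.comap f)).map (f.comp (H.comap f).subtype) := ⟨y, hy, rfl⟩
    rw [h0, Subgroup.mem_bot] at h1
    exact hy1 h1
  · rintro _ ⟨z, -, rfl⟩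
    exact z.2
  · rintro h hh _ ⟨z, hz, rfl⟩
    obtain ⟨g, rfl⟩ := hf h
    have hn : (Cfsg.pCore 2 (H.comap f)).Normal := inferInstance
    refine ⟨⟨g, hh⟩ * z * ⟨g, hh⟩⁻¹, hn.conj_mem z hz ⟨g, hh⟩, ?_⟩
    simp

section

variable {p : ℕ} [Fact p.Prime] {F : Type*} [Field F] [Finite F] [CharP F p]
    {W : Type*} [AddCommGroup W] [Module F W] [FiniteDimensional F W]
    {G : Type u} [Group G] [Finite G] {S : Type*} [Group S]

omit [Finite F] [FiniteDimensional F W] in
/-- the preimage of a `p'`-subgroup -/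
theorem not_dvd_comap (f : G →* S) (σ : Representation F G W) (hσ : ∀ x, σ x = 1 → x = 1)
    (hker : ∀ x, f x = 1 → ∃ c : F, σ x = c • 1) {H : Subgroup S} (hp : ¬ p ∣ Nat.card H) :
    ¬ p ∣ Nat.card (H.comap f) := by
  intro hd
  have hpr : p.Prime := Fact.out
  obtain ⟨z, hz⟩ := exists_prime_orderOf_dvd_card' p hd
  have hfz : f z = 1 := by
    have h1 : orderOf (⟨f z, z.2⟩ : H) ∣ p := by
      rw [← hz]
      refine orderOf_dvd_of_pow_eq_one ?_
      apply Subtype.ext
      show (f z) ^ orderOf z = 1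
      rw [← map_pow, ← Subgroup.coe_pow, pow_orderOf_eq_one, Subgroup.coe_one, map_one]
    rcases (Nat.dvd_prime hpr).1 h1 with h2 | h2
    · exact congrArg Subtype.val (orderOf_eq_one_iff.1 h2)
    · exact absurd (h2 ▸ orderOf_dvd_natCard (⟨f z, z.2⟩ : H)) hp
  obtain ⟨c, hc⟩ := hker z hfz
  have h3 : σ (z : G) = 1 := by
    rcases subsingleton_or_nontrivial W with hW | hW
    · exact Subsingleton.elim _ _
    · have h4 : (c ^ p) • (1 : Module.End F W) = 1 := by
        have h5 : σ (z : G) ^ p = 1 := by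
          rw [← map_pow, ← Subgroup.coe_pow, ← hz, pow_orderOf_eq_one, Subgroup.coe_one, map_one]
        rw [hc, _root_.smul_pow, one_pow] at h5
        exact h5
      have h5 : c ^ p = 1 := by
        obtain ⟨w, hw⟩ := exists_ne (0 : W)
        have h6 := congrArg (fun T : Module.End F W => T w) h4
        have h7 : (c ^ p) • w = w := h6
        have h8 : (c ^ p - 1) • w = 0 := by rw [sub_smul, one_smul, h7, sub_self]
        rcases smul_eq_zero.1 h8 with h9 | h9
        · exact sub_eq_zero.1 h9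
        · exact absurd h9 hw
      have h6 : (c - 1) ^ p = 0 := by rw [sub_pow_char, h5, one_pow, sub_self]
      have h7 : c = 1 := sub_eq_zero.1 (pow_eq_zero_iff hpr.ne_zero |>.1 h6)
      rw [hc, h7, one_smul]
  have h4 : z = 1 := Subtype.ext (hσ z h3)
  rw [h4, orderOf_one] at hz
  exact hpr.one_lt.ne' hz.symm

omit [Finite F] [FiniteDimensional F W] [Finite G] in
theorem aeval_conj (σ : Representation F G W) (c x : G) (g : F[X]) :
    aeval (σ (c⁻¹ * x * c)) g = σ c⁻¹ * aeval (σ x) g * σ c := by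
  have hc : σ c * σ c⁻¹ = 1 := by rw [← map_mul, mul_inv_cancel, map_one]
  have hc' : σ c⁻¹ * σ c = 1 := by rw [← map_mul, inv_mul_cancel, map_one]
  have hpow : ∀ n : ℕ, σ (c⁻¹ * x * c) ^ n = σ c⁻¹ * σ x ^ n * σ c := by
    intro n
    rw [← map_pow, ← map_pow, ← map_mul, ← map_mul]
    congr 1
    have := conj_pow (i := n) (a := c⁻¹) (b := x)
    rw [inv_inv] at this
    exact this
  induction g using Polynomial.induction_on' with
  | add g₁ g₂ h1 h2 => rw [map_add, map_add, h1, h2, mul_add, add_mul]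
  | monomial n a =>
    rw [aeval_monomial, aeval_monomial, hpow, ← mul_assoc, ← mul_assoc, ← mul_assoc,
      ← (Algebra.commutes a (σ c⁻¹)).symm]

/-- **(A), pushed to the quotient.** -/
theorem hasTwo_of_aeval (f : G →* S) (hf : Function.Surjective f) (σ : Representation F G W)
    (hσ : ∀ x, σ x = 1 → x = 1) (hker : ∀ x, f x = 1 → ∃ c : F, σ x = c • 1) {H : Subgroup S}
    (h2 : ¬ 2 ∣ H.index) (hp : ¬ p ∣ Nat.card H) {x : G} (hx : ∃ i : ℕ, x ^ 2 ^ i = 1) {g : F[X]} (hg0 : g ≠ 0)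
    {j : ℕ} (hg : g.natDegree ≤ 2 ^ j) (h : aeval (σ x) g = 0) (hx1 : f (x ^ 2 ^ j) ≠ 1) : HasTwo H := by
  have hi : ¬ 2 ∣ (H.comap f).index := by rwa [Subgroup.index_comap_of_surjective H hf]
  obtain ⟨c, hc⟩ := exists_conj_mem hi hx
  have hG := not_dvd_comap f σ hσ hker hp
  let y : H.comap f := ⟨c⁻¹ * x * c, hc⟩
  have hpow : ∀ k : ℕ, ((y ^ k : H.comap f) : G) = c⁻¹ * x ^ k * c := by
    intro k
    rw [Subgroup.coe_pow]
    have := conj_pow (i := k) (a := c⁻¹) (b := x)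
    rw [inv_inv] at this
    exact this
  have hy : ∃ i : ℕ, y ^ 2 ^ i = 1 := by
    obtain ⟨i, hi⟩ := hx
    refine ⟨i, Subtype.ext ?_⟩
    rw [hpow, hi, mul_one, inv_mul_cancel]
    rfl
  have key := H408.Hall.MTwo.mem_pCore_of_aeval (p := p) hG (σ.comp (H.comap f).subtype)
    (fun z hz => Subtype.ext (hσ z hz)) hy hg0 hg (by
      show aeval (σ (c⁻¹ * x * c)) g = 0
      rw [aeval_conj, h, mul_zero, zero_mul])
  refine HasTwo.push f hf H key ?_
  rw [hpow, map_mul, map_mul, map_inv]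
  intro h0
  apply hx1
  have := congrArg (fun t => f c * t * (f c)⁻¹) h0
  simpa [mul_assoc] using this

/-- **(B), pushed to the quotient.** -/
theorem hasTwo_of_rank (f : G →* S) (hf : Function.Surjective f) (σ : Representation F G W)
    (hσ : ∀ x, σ x = 1 → x = 1) (hker : ∀ x, f x = 1 → ∃ c : F, σ x = c • 1) {H : Subgroup S}
    (h2 : ¬ 2 ∣ H.index) (hp : ¬ p ∣ Nat.card H) {x : G} {g : F[X]} (hg0 : g ≠ 0)
    {j r : ℕ} (hg : g.natDegree ≤ 2 ^ j) (h : finrank F (LinearMap.range (aeval (σ x) g)) ≤ r)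
    (ht : x ^ 2 ^ (j + 1) = 1)
    (hinv : ∀ z : G, Odd (orderOf z) → ¬ p ∣ orderOf z → x ^ 2 ^ j * z * (x ^ 2 ^ j)⁻¹ = z⁻¹ →
      finrank F (LinearMap.range (σ z - 1)) ≤ 2 * r → z = 1)
    (hx1 : f (x ^ 2 ^ j) ≠ 1) : HasTwo H := by
  have hi : ¬ 2 ∣ (H.comap f).index := by rwa [Subgroup.index_comap_of_surjective H hf]
  obtain ⟨c, hc⟩ := exists_conj_mem hi ⟨_, ht⟩
  have hG := not_dvd_comap f σ hσ hker hp
  let y : H.comap f := ⟨c⁻¹ * x * c, hc⟩
  have hpow : ∀ k : ℕ, ((y ^ k : H.comap f) : G) = c⁻¹ * x ^ k * c := by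
    intro k
    rw [Subgroup.coe_pow]
    have := conj_pow (i := k) (a := c⁻¹) (b := x)
    rw [inv_inv] at this
    exact this
  have hrank : ∀ (A : Module.End F W) (d : G), finrank F (LinearMap.range (σ d⁻¹ * A * σ d)) ≤
      finrank F (LinearMap.range A) := by
    intro A d
    have h3 : LinearMap.range (σ d⁻¹ * A * σ d) ≤ (LinearMap.range A).map (σ d⁻¹) := by
      rintro _ ⟨w, rfl⟩
      exact ⟨A (σ d w), ⟨_, rfl⟩, rfl⟩
    exact (Submodule.finrank_mono h3).trans (Submodule.finrank_map_le _ _)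
  have key := H408.Hall.MTwo.mem_pCore_of_rank (p := p) (r := r) (j := j) hG (σ.comp (H.comap f).subtype) (y := y)
    hg0 hg (by
      show finrank F (LinearMap.range (aeval (σ (c⁻¹ * x * c)) g)) ≤ r
      rw [aeval_conj]
      exact (hrank _ _).trans h) (by
      apply Subtype.ext
      rw [hpow, ht, mul_one, inv_mul_cancel]
      rfl) (by
      intro z hz hzt hzr
      apply Subtype.ext
      have h4 : (z : G) = c⁻¹ * (c * z * c⁻¹) * c := by group
      have h5 : c * (z : G) * c⁻¹ = 1 := by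
        have ho : orderOf (c * (z : G) * c⁻¹) = orderOf z := by
          rw [← Subgroup.orderOf_coe]
          exact MulEquiv.orderOf_eq (MulAut.conj c) (z : G)
        refine hinv _ (ho ▸ hz) (fun hd => hG ?_) ?_ ?_
        · rw [ho] at hd
          exact hd.trans (orderOf_dvd_natCard z)
        · have h6 := congrArg Subtype.val hzt
          rw [Subgroup.coe_mul, Subgroup.coe_mul, Subgroup.coe_inv, Subgroup.coe_inv, hpow] at h6
          have h7 := congrArg (fun t => c * t * c⁻¹) h6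
          simp only [mul_assoc, mul_inv_rev, inv_inv, mul_inv_cancel_left] at h7 ⊢
          simpa [mul_assoc] using h7
        · have h6 : σ (c * (z : G) * c⁻¹) - 1 = σ (c⁻¹)⁻¹ * (σ z - 1) * σ c⁻¹ := by
            rw [inv_inv, mul_sub, sub_mul, mul_one, ← map_mul, ← map_mul, ← map_mul, mul_inv_cancel, map_one]
          rw [h6]
          exact (hrank _ _).trans hzr
      rw [h4, h5, mul_one, inv_mul_cancel]
      rfl)
  refine HasTwo.push f hf H key ?_
  rw [hpow, map_mul, map_mul, map_inv]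
  intro h0
  apply hx1
  have := congrArg (fun t => f c * t * (f c)⁻¹) h0
  simpa [mul_assoc] using this

end

end Cfsg.Agent.H563.RV
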