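import Mathlib
import Cfsg.Agent.Lib.KleinGen

/-!
# TEAM RV, NRow for the exceptional groups: LEMMA A, the group theoretic part (helper563)

`Y` an abelian group of exponent 4 normalises the finite group `R` of odd order; if some `y * y`, `y ∈ Y`, does not
centralise `R` then there is a configuration `y ∈ Y`, `v ∈ R`, `v' = y v y⁻¹`, `(y y) v (y y)⁻¹ = v⁻¹ ≠ v`, such that
`c = [v, v']` commutes with `v`, `v'`, `Y`, and every `a ∈ Y` centralises `v, v'` up to a power of `y`.
-/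

set_option autoImplicit false

namespace Cfsg.Agent.H563.RV.LemA

open Subgroup
open scoped commutatorElement

variable {Γ : Type*} [Group Γ]

/-- a `2`-group normalising the finite group `R` of odd order normalises a Sylow `q`-subgroup of `R` -/
theorem exists_sylow {Y R : Subgroup Γ} (hY : IsPGroup 2 Y) [Finite R] (hodd : Odd (Nat.card R))
    (hn : ∀ a ∈ Y, ∀ g ∈ R, a * g * a⁻¹ ∈ R) (q : ℕ) [Fact q.Prime] :
    ∃ P : Sylow q R, ∀ a ∈ Y, ∀ g ∈ (P : Subgroup R).map R.subtype, a * g * a⁻¹ ∈ (P : Subgroup R).map R.subtype := by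
  have hYR : Y ≤ normalizer (R : Set Γ) := by
    intro a ha
    rw [mem_normalizer_iff]
    intro g
    refine ⟨fun hg => hn a ha g hg, fun hg => ?_⟩
    have := hn a⁻¹ (Y.inv_mem ha) _ hg
    simpa [mul_assoc] using this
  let act : MulDistribMulAction Y R :=
    MulDistribMulAction.compHom R (R.normalizerMonoidHom.comp (Subgroup.inclusion hYR))
  have hact : ∀ (a : Y) (x : R), ((a • x : R) : Γ) = a * x * (a : Γ)⁻¹ := fun a x => rfl
  have hcard : ¬ 2 ∣ Nat.card (Sylow q R) := by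
    intro h
    obtain ⟨P⟩ : Nonempty (Sylow q R) := inferInstance
    exact (Nat.not_even_iff_odd.2 hodd) (even_iff_two_dvd.2 (h.trans (P.card_dvd_index.trans (Subgroup.index_dvd_card _))))
  have : Fact (Nat.Prime 2) := ⟨Nat.prime_two⟩
  obtain ⟨P, hP⟩ := hY.nonempty_fixed_point_of_prime_not_dvd_card (Sylow q R) hcard
  refine ⟨P, ?_⟩
  rintro a ha _ ⟨x, hx, rfl⟩
  have h1 : (⟨a, ha⟩ : Y) • P = P := hP ⟨a, ha⟩
  refine ⟨(⟨a, ha⟩ : Y) • x, ?_, rfl⟩
  have h2 : (⟨a, ha⟩ : Y) • x ∈ (⟨a, ha⟩ : Y) • P := ⟨x, hx, rfl⟩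
  rwa [h1] at h2

/-- the configuration -/
structure Conf (Y R : Subgroup Γ) (y v : Γ) : Prop where
  hy : y ∈ Y
  hv : v ∈ R
  hv' : y * v * y⁻¹ ∈ R
  ne : v ≠ 1
  inv : (y * y) * v * (y * y)⁻¹ = v⁻¹
  cv : Commute ⁅v, y * v * y⁻¹⁆ v
  cv' : Commute ⁅v, y * v * y⁻¹⁆ (y * v * y⁻¹)
  cY : ∀ a ∈ Y, Commute ⁅v, y * v * y⁻¹⁆ a
  cyc : ∀ a ∈ Y, ∃ i : ℕ, Commute (y ^ i * a) v ∧ Commute (y ^ i * a) (y * v * y⁻¹)

theorem exists_conf_of_min {Y R : Subgroup Γ} (hYc : ∀ a ∈ Y, ∀ b ∈ Y, a * b = b * a) (hY4 : ∀ a ∈ Y, a ^ 4 = 1)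
    [Finite R] (hodd : Odd (Nat.card R)) (hn : ∀ a ∈ Y, ∀ g ∈ R, a * g * a⁻¹ ∈ R)
    (hm : ∀ T ≤ R, T ≠ R → (∀ a ∈ Y, ∀ g ∈ T, a * g * a⁻¹ ∈ T) → ∀ y ∈ Y, ∀ g ∈ T, (y * y) * g = g * (y * y))
    {y g : Γ} (hy : y ∈ Y) (hg : g ∈ R) (hne : (y * y) * g ≠ g * (y * y)) : ∃ y v : Γ, Conf Y R y v := by
  have hY2 : IsPGroup 2 Y := fun a => ⟨2, Subtype.ext (hY4 a.1 a.2)⟩
  obtain ⟨z, hzd⟩ : ∃ z, z = y * y := ⟨_, rfl⟩
  have hzh : ∀ T ≤ R, T ≠ R → (∀ a ∈ Y, ∀ g ∈ T, a * g * a⁻¹ ∈ T) → ∀ g ∈ T, z * g = g * z := by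
    intro T h1 h2 h3 g hg
    rw [hzd]
    exact hm T h1 h2 h3 y hy g hg
  rw [← hzd] at hne
  have hz : z ∈ Y := hzd ▸ Y.mul_mem hy hy
  have hyz : y * z = z * y := by rw [hzd, mul_assoc]
  -- `R` is a `q`-group
  have hstep : ∃ q : ℕ, q.Prime ∧ IsPGroup q R := by
    by_contra hcon
    push Not at hcon
    set C : Subgroup Γ := R ⊓ centralizer {z} with hC
    have hCR : C = R := by
      by_contra hne'
      have h1 : C.relIndex R ≠ 1 := by
        intro h
        exact hne' (le_antisymm inf_le_left (relIndex_eq_one.1 h))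
      obtain ⟨q, hq, hqd⟩ := Nat.exists_prime_and_dvd h1
      have : Fact q.Prime := ⟨hq⟩
      obtain ⟨P, hP⟩ := exists_sylow hY2 hodd hn q
      have hPC : (P : Subgroup R).map R.subtype ≤ C := by
        have hPR : (P : Subgroup R).map R.subtype ≤ R := map_subtype_le _
        refine le_inf hPR ?_
        have hPne : (P : Subgroup R).map R.subtype ≠ R := by
          intro h
          apply hcon q hq
          have h2 : IsPGroup q ((P : Subgroup R).map R.subtype) := P.isPGroup'.map _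
          rwa [h] at h2
        intro x hx
        rw [mem_centralizer_singleton_iff]
        exact (hzh _ hPR hPne hP x hx).symm
      have h3 : C.relIndex R ∣ ((P : Subgroup R).map R.subtype).relIndex R := by
        refine relIndex_dvd_of_le_left R hPC
      have h4 : ((P : Subgroup R).map R.subtype).relIndex R = (P : Subgroup R).index := by
        rw [relIndex, subgroupOf, comap_map_eq_self_of_injective R.subtype_injective]
      rw [h4] at h3
      exact P.not_dvd_index (hqd.trans h3)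
    have h2 : g ∈ C := by rw [hCR]; exact hg
    exact hne ((mem_centralizer_singleton_iff.1 h2.2).symm)
  obtain ⟨q, hq, hRq⟩ := hstep
  have : Fact q.Prime := ⟨hq⟩
  -- the commutator subgroup
  set D : Subgroup Γ := ⁅R, R⁆ with hD
  have hDR : D ≤ R := by
    rw [hD, commutator_le]
    intro a ha b hb
    exact R.mul_mem (R.mul_mem (R.mul_mem ha hb) (R.inv_mem ha)) (R.inv_mem hb)
  have hDne : D ≠ R := by
    intro h
    have h1 : Group.IsNilpotent R := hRq.isNilpotent
    have h2 : Group.IsSolvable R := inferInstance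
    have h3 : Nontrivial R := by
      refine ⟨⟨⟨g, hg⟩, 1, fun h => hne ?_⟩⟩
      have : g = 1 := congrArg Subtype.val h
      rw [this, mul_one, one_mul]
    have h4 := Group.IsSolvable.commutator_lt_top_of_nontrivial R
    have h5 : (_root_.commutator R).map R.subtype = D := by
      rw [_root_.commutator_def, map_commutator, ← MonoidHom.range_eq_map, range_subtype]
    have h6 : _root_.commutator R = ⊤ := by
      apply map_injective R.subtype_injective
      rw [h5, h, ← MonoidHom.range_eq_map, range_subtype]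
    rw [h6] at h4
    exact lt_irrefl _ h4
  have hDn : ∀ a, (∀ g ∈ R, a * g * a⁻¹ ∈ R) → ∀ d ∈ D, a * d * a⁻¹ ∈ D := by
    intro a ha d hd
    have h1 : D.map (MulAut.conj a).toMonoidHom ≤ D := by
      rw [hD, map_commutator]
      have h2 : R.map (MulAut.conj a).toMonoidHom ≤ R := by
        rintro _ ⟨x, hx, rfl⟩
        exact ha x hx
      exact commutator_mono h2 h2
    exact h1 ⟨d, hd, rfl⟩
  have hDz := hzh D hDR hDne fun a ha => hDn a (hn a ha)
  -- `h⁻¹ h ^ z` centralises `D`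
  have hcent : ∀ h ∈ R, ∀ d ∈ D, Commute (h⁻¹ * (z * h * z⁻¹)) d := by
    intro h hh d hd
    have h1 : h * d * h⁻¹ ∈ D := by
      refine hDn h (fun g hg => ?_) d hd
      exact R.mul_mem (R.mul_mem hh hg) (R.inv_mem hh)
    have h2 := hDz _ h1
    have h3 := hDz _ hd
    have e1 : z * h * z⁻¹ * d * (z * h * z⁻¹)⁻¹ = h * d * h⁻¹ := by
      calc z * h * z⁻¹ * d * (z * h * z⁻¹)⁻¹
          = z * h * (z⁻¹ * (d * z)) * h⁻¹ * z⁻¹ := by group
        _ = z * (h * d * h⁻¹) * z⁻¹ := by rw [← h3]; group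
        _ = h * d * h⁻¹ := by rw [h2]; group
    show h⁻¹ * (z * h * z⁻¹) * d = d * (h⁻¹ * (z * h * z⁻¹))
    calc h⁻¹ * (z * h * z⁻¹) * d
        = h⁻¹ * (z * h * z⁻¹ * d * (z * h * z⁻¹)⁻¹) * (z * h * z⁻¹) := by group
      _ = d * (h⁻¹ * (z * h * z⁻¹)) := by rw [e1]; group
  -- the element `v`
  set v := g⁻¹ * (z * g * z⁻¹) with hv
  have hzz : z * z = 1 := by
    have := hY4 y hy
    rw [hzd, ← this]
    simp only [pow_succ, pow_zero, one_mul, mul_assoc]
  have hvR : v ∈ R := R.mul_mem (R.inv_mem hg) (hn _ hz g hg)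
  have hv'R : y * v * y⁻¹ ∈ R := hn y hy v hvR
  have hv1 : v ≠ 1 := by
    intro h
    apply hne
    have h1 : z * g * z⁻¹ = g := (inv_mul_eq_one.1 h).symm
    rw [mul_inv_eq_iff_eq_mul] at h1
    exact h1
  have hvz : z * v * z⁻¹ = v⁻¹ := by
    have e1 : z * v * z⁻¹ = (z * g * z⁻¹)⁻¹ * ((z * z) * g * (z * z)⁻¹) := by
      rw [hv]; group
    rw [e1, hzz, hv]
    group
  have hv'eq : y * v * y⁻¹ = (y * g * y⁻¹)⁻¹ * (z * (y * g * y⁻¹) * z⁻¹) := by
    have e1 : z * (y * g * y⁻¹) * z⁻¹ = y * (z * g * z⁻¹) * y⁻¹ := by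
      calc z * (y * g * y⁻¹) * z⁻¹ = (z * y) * g * (z * y)⁻¹ := by group
        _ = (y * z) * g * (y * z)⁻¹ := by rw [hyz]
        _ = _ := by group
    rw [e1, hv]; group
  have hcD : ⁅v, y * v * y⁻¹⁆ ∈ D := commutator_mem_commutator hvR hv'R
  have hcv : Commute ⁅v, y * v * y⁻¹⁆ v := (hcent g hg _ hcD).symm
  have hcv' : Commute ⁅v, y * v * y⁻¹⁆ (y * v * y⁻¹) := by
    have h1 := (hcent (y * g * y⁻¹) (hn y hy g hg) _ hcD).symm
    rw [← hv'eq] at h1
    exact h1
  -- claim 1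
  have hcl : ∀ b ∈ Y, (∀ h ∈ R, (b * b) * h = h * (b * b)) → (∀ h ∈ R, b * h = h * b) ∨
      ∀ h ∈ R, (z * b) * h = h * (z * b) := by
    intro b hb hbb
    by_contra hcon
    rw [not_or] at hcon
    obtain ⟨hc1, hc2⟩ := hcon
    -- fixed points of elements of `Y`
    have hfix : ∀ a ∈ Y, ¬ (∀ h ∈ R, a * h = h * a) → ∀ h ∈ R, a * h = h * a → z * h = h * z := by
      intro a ha hna h hh hah
      refine hzh (R ⊓ centralizer {a}) inf_le_left ?_ ?_ h ⟨hh, mem_centralizer_singleton_iff.2 hah.symm⟩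
      · intro he
        apply hna
        intro x hx
        rw [← he] at hx
        exact (mem_centralizer_singleton_iff.1 hx.2).symm
      · rintro a' ha' x ⟨hx, hxa⟩
        refine ⟨hn a' ha' x hx, ?_⟩
        have hxa := mem_centralizer_singleton_iff.1 hxa
        refine mem_centralizer_singleton_iff.2 ?_
        have e1 := hYc a ha a' ha'
        have e2 : a'⁻¹ * a = a * a'⁻¹ := by
          rw [inv_mul_eq_iff_eq_mul, ← mul_assoc, ← e1]
          group
        calc a' * x * a'⁻¹ * a = a' * x * (a'⁻¹ * a) := by group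
          _ = a' * (x * a) * a'⁻¹ := by rw [e2]; group
          _ = (a' * a) * x * a'⁻¹ := by rw [hxa]; group
          _ = a * (a' * x * a'⁻¹) := by rw [← e1]; group
    apply hne
    have key : (⊤ : Subgroup R) ≤ (centralizer {z}).subgroupOf R := by
      let cj : ∀ a ∈ Y, R →* R := fun a ha =>
        { toFun := fun h => ⟨a * h * a⁻¹, hn a ha h h.2⟩
          map_one' := Subtype.ext (by simp)
          map_mul' := fun s t => Subtype.ext (by
            show a * ((s : Γ) * t) * a⁻¹ = (a * s * a⁻¹) * (a * t * a⁻¹)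
            group) }
      refine Cfsg.Agent.Lib.KleinGen.le_of_fixed_le (⊤ : Subgroup R) _ ?_ (cj b hb) (cj z hz) ?_ ?_ ?_
        (fun _ _ => mem_top _) (fun _ _ => mem_top _) ?_ ?_ ?_
      · rw [Subgroup.card_top]; exact hodd
      · intro h
        apply Subtype.ext
        show b * (b * h * b⁻¹) * b⁻¹ = h
        have := hbb h h.2
        calc b * (b * (h : Γ) * b⁻¹) * b⁻¹ = (b * b) * h * (b * b)⁻¹ := by group
          _ = h := by rw [this]; group
      · intro h
        apply Subtype.ext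
        show z * (z * h * z⁻¹) * z⁻¹ = h
        calc z * (z * (h : Γ) * z⁻¹) * z⁻¹ = (z * z) * h * (z * z)⁻¹ := by
              group
          _ = h := by rw [hzz]; group
      · intro h
        apply Subtype.ext
        show b * (z * h * z⁻¹) * b⁻¹ = z * (b * h * b⁻¹) * z⁻¹
        have e1 := hYc b hb z hz
        calc b * (z * (h : Γ) * z⁻¹) * b⁻¹ = (b * z) * h * (b * z)⁻¹ := by group
          _ = _ := by rw [e1]; group
      · intro h _ hf
        have hf' : b * (h : Γ) * b⁻¹ = h := congrArg Subtype.val hf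
        rw [mul_inv_eq_iff_eq_mul] at hf'
        show (h : Γ) ∈ centralizer {z}
        exact mem_centralizer_singleton_iff.2 (hfix b hb hc1 h h.2 hf').symm
      · intro h _ hf
        have hf' : z * (h : Γ) * z⁻¹ = h := congrArg Subtype.val hf
        rw [mul_inv_eq_iff_eq_mul] at hf'
        show (h : Γ) ∈ centralizer {z}
        exact mem_centralizer_singleton_iff.2 hf'.symm
      · intro h _ hf
        have hf' : b * (z * (h : Γ) * z⁻¹) * b⁻¹ = h := congrArg Subtype.val hf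
        have hf2 : (z * b) * (h : Γ) = h * (z * b) := by
          rw [← mul_inv_eq_iff_eq_mul]
          have e1 := hYc b hb z hz
          rw [← e1]
          calc b * z * (h : Γ) * (b * z)⁻¹ = b * (z * (h : Γ) * z⁻¹) * b⁻¹ := by group
            _ = h := hf'
        show (h : Γ) ∈ centralizer {z}
        exact mem_centralizer_singleton_iff.2 (hfix _ (Y.mul_mem hz hb) hc2 h h.2 hf2).symm
    have h1 := key (mem_top (⟨g, hg⟩ : R))
    exact (mem_centralizer_singleton_iff.1 (mem_subgroupOf.1 h1)).symm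
  -- claim 2
  have hcyc : ∀ a ∈ Y, ∃ i : ℕ, ∀ h ∈ R, (y ^ i * a) * h = h * (y ^ i * a) := by
    intro a ha
    have h4 : ∀ h ∈ R, ((a * a) * (a * a)) * h = h * ((a * a) * (a * a)) := by
      intro h _
      have : (a * a) * (a * a) = 1 := by
        rw [← hY4 a ha]
        simp only [pow_succ, pow_zero, one_mul, mul_assoc]
      rw [this, one_mul, mul_one]
    have hya := hYc y hy a ha
    rcases hcl (a * a) (Y.mul_mem ha ha) h4 with h | h
    · rcases hcl a ha h with h | h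
      · exact ⟨0, fun x hx => by rw [pow_zero, one_mul]; exact h x hx⟩
      · exact ⟨2, fun x hx => by rw [pow_two, ← hzd]; exact h x hx⟩
    · have e1 : z * (a * a) = (y * a) * (y * a) := by
        rw [hzd]
        calc (y * y) * (a * a) = y * (y * a) * a := by simp only [mul_assoc]
          _ = y * (a * y) * a := by rw [hya]
          _ = (y * a) * (y * a) := by simp only [mul_assoc]
      rw [e1] at h
      rcases hcl (y * a) (Y.mul_mem hy ha) h with h | h
      · exact ⟨1, fun x hx => by rw [pow_one]; exact h x hx⟩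
      · refine ⟨3, fun x hx => ?_⟩
        have e2 : y ^ 3 * a = z * (y * a) := by
          rw [hzd]; simp only [pow_succ, pow_zero, one_mul, mul_assoc]
        rw [e2]
        exact h x hx
  refine ⟨y, v, hy, hvR, hv'R, hv1, by rw [← hzd]; exact hvz, hcv, hcv', ?_, ?_⟩
  · -- `c` commutes with `Y`
    have hcy : Commute ⁅v, y * v * y⁻¹⁆ y := by
      have e1 : y * ⁅v, y * v * y⁻¹⁆ * y⁻¹ = ⁅y * v * y⁻¹, z * v * z⁻¹⁆ := by
        have e0 : z * v * z⁻¹ = y * (y * v * y⁻¹) * y⁻¹ := by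
          rw [hzd, mul_inv_rev]; simp only [mul_assoc]
        rw [e0]
        simp only [commutatorElement_def]; group
      rw [hvz] at e1
      have e2 : ⁅y * v * y⁻¹, v⁻¹⁆ = v⁻¹ * ⁅v, y * v * y⁻¹⁆ * v := by
        simp only [commutatorElement_def]; group
      have e3 : v⁻¹ * ⁅v, y * v * y⁻¹⁆ * v = ⁅v, y * v * y⁻¹⁆ := by
        rw [mul_assoc, hcv.eq]; group
      rw [e2, e3] at e1
      exact (mul_inv_eq_iff_eq_mul.1 e1).symm
    intro a ha
    obtain ⟨i, hi⟩ := hcyc a ha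
    have h1 : Commute (y ^ i * a) v := hi v hvR
    have h2 : Commute (y ^ i * a) (y * v * y⁻¹) := hi _ hv'R
    have h3 : Commute (y ^ i * a) ⁅v, y * v * y⁻¹⁆ := by
      rw [commutatorElement_def]
      exact ((h1.mul_right h2).mul_right h1.inv_right).mul_right h2.inv_right
    have h4 : Commute ⁅v, y * v * y⁻¹⁆ ((y ^ i)⁻¹ * (y ^ i * a)) := (hcy.pow_right i).inv_right.mul_right h3.symm
    rwa [inv_mul_cancel_left] at h4
  · intro a ha
    obtain ⟨i, hi⟩ := hcyc a ha
    exact ⟨i, hi v hvR, hi _ hv'R⟩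

/-- **The configuration.** -/
theorem exists_conf {Y : Subgroup Γ} (hYc : ∀ a ∈ Y, ∀ b ∈ Y, a * b = b * a) (hY4 : ∀ a ∈ Y, a ^ 4 = 1) :
    ∀ (N : ℕ) (R : Subgroup Γ) [Finite R], Nat.card R ≤ N → Odd (Nat.card R) →
      (∀ a ∈ Y, ∀ g ∈ R, a * g * a⁻¹ ∈ R) → ∀ {y g : Γ}, y ∈ Y → g ∈ R → (y * y) * g ≠ g * (y * y) →
      ∃ y v : Γ, Conf Y R y v := by
  intro N
  induction N with
  | zero =>
    intro R _ h1 _ _ y g _ hg
    exact absurd (Nat.card_pos (α := R)) (by omega)
  | succ N ih =>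
    intro R _ h1 hodd hn y g hy hg hne
    by_cases hm : ∀ T ≤ R, T ≠ R → (∀ a ∈ Y, ∀ g ∈ T, a * g * a⁻¹ ∈ T) → ∀ y ∈ Y, ∀ g ∈ T, (y * y) * g = g * (y * y)
    · exact exists_conf_of_min hYc hY4 hodd hn hm hy hg hne
    · push Not at hm
      obtain ⟨T, hTR, hTne, hTn, y', hy', g', hg', hne'⟩ := hm
      have hfin : Finite T := Finite.of_injective _ (Subgroup.inclusion_injective hTR)
      have hlt : Nat.card T < Nat.card R := by
        refine lt_of_le_of_ne (Nat.card_le_card_of_injective _ (Subgroup.inclusion_injective hTR)) fun h => hTne ?_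
        exact Subgroup.eq_of_le_of_card_ge hTR h.ge
      have hToddc : Odd (Nat.card T) := hodd.of_dvd_nat (Subgroup.card_dvd_of_le hTR)
      obtain ⟨y₁, v₁, hC⟩ := ih T (by omega) hToddc hTn hy' hg' hne'
      exact ⟨y₁, v₁, hC.hy, hTR hC.hv, hTR hC.hv', hC.ne, hC.inv, hC.cv, hC.cv', hC.cY, hC.cyc⟩

end Cfsg.Agent.H563.RV.LemA
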