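import Cfsg.Agent.H563.RV.Push
import Cfsg.Agent.H953.DSum

/-!
# `p'`-subgroups of odd index of `PSL_n(q)`, `PSU_n(q)` have a nontrivial `2`-core (helper563)

`q` odd, `n ≥ 3`, `H` a subgroup of odd index of `PSL_n(q)` or `PSU_n(q)` of order prime to `q`: `O_2(H) ≠ 1`. The element
`x = diag(A, det A⁻¹, 1, ..)`, `A` of order `8` in `GL_2(q)` or `GU_2(q)`, is annihilated by a polynomial of degree `4`, and
`x ^ 4` is not a scalar. (The observation is helper340's.)
-/

set_option autoImplicit false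

namespace Cfsg.Agent.H563.RV

open Cfsg Module Polynomial Matrix Cfsg.Agent.H403 Cfsg.Agent.H403.NumTop Cfsg.Agent.H953.DSum

section DS

variable {F : Type*} [Field F] {a b : ℕ}

theorem ds_add (A A' : Matrix (Fin a) (Fin a) F) (B B' : Matrix (Fin b) (Fin b) F) :
    ds A B + ds A' B' = ds (A + A') (B + B') := by
  rw [ds, ds, ds, ← map_add, fromBlocks_add]
  simp

theorem ds_zero : ds (0 : Matrix (Fin a) (Fin a) F) (0 : Matrix (Fin b) (Fin b) F) = 0 := by
  have := ds_smul_one (F := F) (a := a) (b := b) 0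
  rwa [zero_smul, zero_smul, zero_smul] at this

theorem ds_aeval (A : Matrix (Fin a) (Fin a) F) (B : Matrix (Fin b) (Fin b) F) (g : F[X]) :
    aeval (ds A B) g = ds (aeval A g) (aeval B g) := by
  induction g using Polynomial.induction_on' with
  | add g₁ g₂ h1 h2 => rw [map_add, map_add, map_add, h1, h2, ds_add]
  | monomial n c =>
    rw [aeval_monomial, aeval_monomial, aeval_monomial, ds_pow, Algebra.algebraMap_eq_smul_one,
      Algebra.algebraMap_eq_smul_one, Algebra.algebraMap_eq_smul_one, ← ds_smul_one, ds_mul]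

end DS

section Elt

variable {F : Type} [Field F] [Fintype F] {e : Bool} {q : ℕ}

/-- The element `diag(A, det A⁻¹, 1, ..)`. -/
theorem exists_elt (hF : Fintype.card F = q ^ (cond e 0 1 + 1)) (hq : Odd q) (k : ℕ) :
    ∃ (M : Matrix (Fin (2 + (1 + k))) (Fin (2 + (1 + k))) F) (g : F[X]), Is e q M ∧ M.det = 1 ∧ M ^ 8 = 1 ∧
      g ≠ 0 ∧ g.natDegree ≤ 4 ∧ aeval M g = 0 ∧ ∀ c : F, M ^ 4 ≠ c • 1 := by
  have h8 : 8 ∣ AA e 2 q := by
    have h1 : AA e 2 q = q ^ 2 - 1 := by cases e <;> simp [AA]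
    rw [h1]
    exact Nat.eight_dvd_sq_sub_one_of_odd hq
  obtain ⟨A, hA, ho⟩ := exists_tor (e := e) (F := F) hF (i := 2) (N := 8) (by norm_num) h8 (by norm_num)
  have hdet : A.det ^ AA e 1 q = 1 := hA.det_pow hF
  have hq0 : q ≠ 0 := by rintro rfl; exact absurd hq (by decide)
  have hA8 : A ^ 8 = 1 := by rw [← ho]; exact pow_orderOf_eq_one A
  have hd0 : A.det ≠ 0 := by
    intro h0
    have h1 := congrArg Matrix.det hA8
    rw [det_pow, det_one, h0] at h1
    norm_num at h1
  set d : F := (A.det)⁻¹ with hd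
  have hd1 : d ^ AA e 1 q = 1 := by rw [hd, inv_pow, hdet, inv_one]
  have hd8 : d ^ 8 = 1 := by rw [hd, inv_pow, ← det_pow, hA8, det_one, inv_one]
  let B : Matrix (Fin (1 + k)) (Fin (1 + k)) F := ds (d • (1 : Matrix (Fin 1) (Fin 1) F)) (1 : Matrix (Fin k) (Fin k) F)
  refine ⟨ds A B, A.charpoly * (X - C d) * (X - C 1), ?_, ?_, ?_, ?_, ?_, ?_, ?_⟩
  · exact hA.ds hq0 ((Is.smul_one hF hd1).ds hq0 (Is.one hq0))
  · rw [det_ds, det_ds, det_one, mul_one, det_smul, det_one, mul_one, Fintype.card_fin, pow_one, hd,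
      mul_inv_cancel₀ hd0]
  · rw [ds_pow, ds_pow, hA8, one_pow, _root_.smul_pow, one_pow, hd8, one_smul, ds_one, ds_one]
  · exact mul_ne_zero (mul_ne_zero A.charpoly_monic.ne_zero (X_sub_C_ne_zero d)) (X_sub_C_ne_zero 1)
  · refine natDegree_mul_le.trans ?_
    rw [natDegree_X_sub_C]
    have h1 : (A.charpoly * (X - C d)).natDegree ≤ 3 := by
      refine natDegree_mul_le.trans ?_
      rw [natDegree_X_sub_C, charpoly_natDegree_eq_dim, Fintype.card_fin]
    omega
  · rw [ds_aeval, ds_aeval]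
    have h1 : aeval A (A.charpoly * (X - C d) * (X - C 1)) = 0 := by
      rw [map_mul, map_mul, aeval_self_charpoly, zero_mul, zero_mul]
    have h2 : aeval (d • (1 : Matrix (Fin 1) (Fin 1) F)) (A.charpoly * (X - C d) * (X - C 1)) = 0 := by
      rw [map_mul, map_mul, map_sub (aeval _) X (C d), aeval_X, aeval_C, Algebra.algebraMap_eq_smul_one, sub_self, mul_zero,
        zero_mul]
    have h3 : aeval (1 : Matrix (Fin k) (Fin k) F) (A.charpoly * (X - C d) * (X - C 1)) = 0 := by
      rw [map_mul, map_sub (aeval _) X (C 1), aeval_X, aeval_C, map_one, sub_self, mul_zero]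
    rw [h1, h2, h3, ds_zero, ds_zero]
  · intro c hc
    rw [ds_pow, ds_pow, ds_eq_smul_iff, ds_eq_smul_iff] at hc
    obtain ⟨h1, h2, -⟩ := hc
    have h3 : d ^ 4 = c := by
      have := congrFun (congrFun h2 0) 0
      rw [_root_.smul_pow, one_pow] at this
      simpa using this
    have h4 : c * c = 1 := by
      have h5 : A ^ 8 = (c * c) • 1 := by
        rw [show 8 = 4 + 4 from rfl, pow_add, h1, smul_mul_smul_comm, one_mul]
      rw [hA8] at h5
      have := congrFun (congrFun h5 0) 0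
      simpa using this.symm
    have h5 : A.det ^ 4 = c * c := by
      rw [← det_pow, h1, det_smul, det_one, mul_one, Fintype.card_fin, pow_two]
    have h6 : c = 1 := by
      have h7 : d ^ 4 * A.det ^ 4 = 1 := by
        rw [← mul_pow, hd, inv_mul_cancel₀ hd0, one_pow]
      rw [h3, h5, h4, mul_one] at h7
      exact h7
    rw [h6, one_smul] at h1
    have h7 := orderOf_dvd_of_pow_eq_one h1
    rw [ho] at h7
    exact absurd h7 (by decide)

end Elt

/-- the natural representation of a group of matrices -/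
def natRep {F : Type*} [Field F] {n : ℕ} {G : Type*} [Group G] (M : G →* Matrix (Fin n) (Fin n) F) :
    Representation F G (Fin n → F) :=
  (Matrix.toLinAlgEquiv' (R := F) (n := Fin n) : Matrix (Fin n) (Fin n) F →* Module.End F (Fin n → F)).comp M

theorem natRep_aeval {F : Type*} [Field F] {n : ℕ} {G : Type*} [Group G] (M : G →* Matrix (Fin n) (Fin n) F)
    (x : G) (g : F[X]) : aeval (natRep M x) g = Matrix.toLinAlgEquiv' (aeval (M x) g) :=
  aeval_algHom_apply (Matrix.toLinAlgEquiv' (R := F) (n := Fin n)).toAlgHom (M x) g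

/-- **`PSL_n(q)`, `PSU_n(q)`, `n ≥ 3`, `q` odd.** -/
theorem hasTwo_lin {S : Type*} [Group S] {e : Bool} {n q : ℕ} {F : Type} [Field F] [Fintype F]
    (h : IsL S e n q F) (hF : Fintype.card F = q ^ (cond e 0 1 + 1)) (hn : 3 ≤ n) (hq : Odd q)
    {p : ℕ} [hpp : Fact p.Prime] [CharP F p] {H : Subgroup S} (h2 : ¬ 2 ∣ H.index) (hp : ¬ p ∣ Nat.card H) :
    HasTwo H := by
  obtain ⟨k, rfl⟩ : ∃ k, n = 2 + (1 + k) := ⟨n - 3, by omega⟩
  obtain ⟨M, g, hM, hdet, hM8, hg0, hg4, hgM, hM4⟩ := exists_elt (e := e) hF hq k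
  cases e with
  | true =>
    obtain ⟨f⟩ := h
    let G := Matrix.SpecialLinearGroup (Fin (2 + (1 + k))) F
    let π : G →* S := (f.symm : Matrix.ProjectiveSpecialLinearGroup (Fin (2 + (1 + k))) F →* S).comp
      (QuotientGroup.mk' (Subgroup.center G))
    have hπ : Function.Surjective π := f.symm.surjective.comp (QuotientGroup.mk'_surjective _)
    have hker : ∀ y : G, π y = 1 → ∃ c : F, (y : Matrix (Fin (2 + (1 + k))) (Fin (2 + (1 + k))) F) = c • 1 := by
      intro y hy
      have h1 : (QuotientGroup.mk' (Subgroup.center G)) y = 1 := by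
        apply f.symm.injective
        rw [map_one]
        exact hy
      have h3 : y ∈ Subgroup.center G := (QuotientGroup.eq_one_iff y).1 h1
      obtain ⟨c, -, hc⟩ := Matrix.SpecialLinearGroup.mem_center_iff.1 h3
      refine ⟨c, hc.symm.trans ?_⟩
      ext i k
      simp [Matrix.scalar_apply, Matrix.diagonal_apply, Matrix.one_apply]
    let R : G →* Matrix (Fin (2 + (1 + k))) (Fin (2 + (1 + k))) F := slToMat _ F
    let x : G := ⟨M, hdet⟩
    have hx8 : x ^ 8 = 1 := by
      apply Subtype.ext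
      rw [Matrix.SpecialLinearGroup.coe_pow]
      exact hM8
    refine hasTwo_of_aeval (p := p) π hπ (natRep R) (fun y hy => ?_) (fun y hy => ?_) h2 hp (x := x) ⟨3, hx8⟩ hg0
      (j := 2) hg4 ?_ ?_
    · have h1 : R y = 1 := (Matrix.toLinAlgEquiv' (R := F)).injective (hy.trans (map_one _).symm)
      exact Subtype.ext h1
    · obtain ⟨c, hc⟩ := hker y hy
      refine ⟨c, ?_⟩
      show Matrix.toLinAlgEquiv' (R y) = _
      have h1 : R y = c • 1 := hc
      rw [h1, map_smul, map_one]
    · rw [natRep_aeval]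
      have h1 : R x = M := rfl
      rw [h1, hgM, map_zero]
    · intro h0
      obtain ⟨c, hc⟩ := hker _ h0
      rw [Matrix.SpecialLinearGroup.coe_pow] at hc
      exact hM4 c hc
  | false =>
    obtain ⟨f⟩ := h
    have hF' : Fintype.card F = q ^ 2 := by simpa using hF
    let G := Cfsg.SU (2 + (1 + k)) F q
    let π : G →* S := (f.symm : Cfsg.PSU (2 + (1 + k)) F q →* S).comp
      (QuotientGroup.mk' (Subgroup.center G))
    have hπ : Function.Surjective π := f.symm.surjective.comp (QuotientGroup.mk'_surjective _)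
    have hker : ∀ y : G, π y = 1 → ∃ c : F,
        ((y : Matrix.SpecialLinearGroup (Fin (2 + (1 + k))) F) : Matrix (Fin (2 + (1 + k))) (Fin (2 + (1 + k))) F) =
          c • 1 := by
      intro y hy
      have h1 : (QuotientGroup.mk' (Subgroup.center G)) y = 1 := by
        apply f.symm.injective
        rw [map_one]
        exact hy
      have h3 : y ∈ Subgroup.center G := (QuotientGroup.eq_one_iff y).1 h1
      obtain ⟨c, hcn, hcq, hc⟩ := (LieClassical.SUBasic.mem_center_SU_iff hF' hn _).1 h3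
      refine ⟨c, ?_⟩
      rw [hc, LieClassical.SUBasic.coe_suScalar q c hcn hcq]
      ext i k
      simp [Matrix.diagonal_apply, Matrix.one_apply]
    let R : G →* Matrix (Fin (2 + (1 + k))) (Fin (2 + (1 + k))) F := (slToMat _ F).comp G.subtype
    have hpres : ∀ u v : Fin (2 + (1 + k)) → F, hermForm _ F q (M *ᵥ u) (M *ᵥ v) = hermForm _ F q u v :=
      (ClassicalGeometry.HermParabolic.preserves_iff hF' M).2 hM
    let x : G := ⟨⟨M, hdet⟩, hpres⟩
    have hpow : ∀ m : ℕ, R (x ^ m) = M ^ m := fun m => by rw [map_pow]; rfl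
    have hx8 : x ^ 8 = 1 := by
      apply Subtype.ext
      apply Subtype.ext
      exact (hpow 8).trans hM8
    refine hasTwo_of_aeval (p := p) π hπ (natRep R) (fun y hy => ?_) (fun y hy => ?_) h2 hp (x := x) ⟨3, hx8⟩ hg0
      (j := 2) hg4 ?_ ?_
    · have h1 : R y = 1 := (Matrix.toLinAlgEquiv' (R := F)).injective (hy.trans (map_one _).symm)
      exact Subtype.ext (Subtype.ext h1)
    · obtain ⟨c, hc⟩ := hker y hy
      refine ⟨c, ?_⟩
      show Matrix.toLinAlgEquiv' (R y) = _
      have h1 : R y = c • 1 := hc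
      rw [h1, map_smul, map_one]
    · rw [natRep_aeval]
      have h1 : R x = M := rfl
      rw [h1, hgM, map_zero]
    · intro h0
      obtain ⟨c, hc⟩ := hker _ h0
      exact hM4 c ((hpow _).symm.trans hc)

/-- **`NRow` for `PSL_n(q)`, `PSU_n(q)`, `n ≥ 3`, `q` odd, `p ∉ π`, `2 ∈ π`.** -/
theorem nRow_lin {S : Type*} [Group S] [Finite S] {e : Bool} {n q : ℕ} {F : Type} [Field F] [Fintype F]
    (h : IsL S e n q F) (hF : Fintype.card F = q ^ (cond e 0 1 + 1)) (hn : 3 ≤ n) (hq : Odd q)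
    {p : ℕ} [hpp : Fact p.Prime] [CharP F p] {π : Set ℕ} (h2 : 2 ∈ π) (hp : p ∉ π) : H165.RV.NRow π S := by
  intro H hH
  refine HasTwo.nAt (hasTwo_lin (p := p) h hF hn hq ?_ ?_)
  · exact hH.2 2 Nat.prime_two h2
  · exact fun hd => hp (hH.1 p hpp.out hd)

end Cfsg.Agent.H563.RV
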