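import Cfsg.Agent.H563.RV.Lin
import Cfsg.Agent.H947.Sy.Psl2A
import Cfsg.Agent.H491.KGV.DimTwo
import Cfsg.Agent.ClassicalGeometry.AutPSL.Main

/-!
# The `N`-row for `PSL_2(q)`, `q` odd, `p ∉ π` (helper563)

A `p'`-subgroup `H` of odd index of `PSL_2(q)` has `O_2(H) ≠ 1` or is isomorphic to `A_5` (Dickson). In the second case the
traces of the preimages of the elements of `H` lie in the field generated by `√5`, so are fixed by field automorphisms of
odd order, and an automorphism of odd order centralising a Sylow 2-subgroup of `H` leaves `H` invariant.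
-/

set_option autoImplicit false

namespace Cfsg.Agent.H563.RV

open Cfsg Matrix Subgroup

section Gen

variable {S : Type*} [Group S]

theorem HasTwo.of_equiv {H : Subgroup S} {D : Type*} [Group D] (e : H ≃* D) (M : Subgroup D) [hM : M.Normal]
    (h2 : IsPGroup 2 M) (h1 : M ≠ ⊥) : HasTwo H := by
  refine ⟨(M.map (e.symm : D →* H)).map H.subtype, ?_, ?_, (h2.map _).map _, ?_⟩
  · intro h
    rw [Subgroup.map_eq_bot_iff_of_injective _ H.subtype_injective,
      Subgroup.map_eq_bot_iff_of_injective _ e.symm.injective] at h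
    exact h1 h
  · rintro _ ⟨y, -, rfl⟩
    exact y.2
  · rintro h hh _ ⟨_, ⟨d, hd, rfl⟩, rfl⟩
    refine ⟨(e.symm : D →* H) (e ⟨h, hh⟩ * d * (e ⟨h, hh⟩)⁻¹), ⟨_, hM.conj_mem d hd _, rfl⟩, ?_⟩
    simp

theorem HasTwo.of_comm {H : Subgroup S} [Finite H] (hc : ∀ a b : H, a * b = b * a) (h2 : 2 ∣ Nat.card H) : HasTwo H := by
  obtain ⟨z, hz⟩ := exists_prime_orderOf_dvd_card' 2 h2
  have hn : (Subgroup.zpowers z).Normal := by
    refine ⟨fun n hn g => ?_⟩
    rw [hc g n, mul_inv_cancel_right]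
    exact hn
  refine HasTwo.of_equiv (MulEquiv.refl H) (Subgroup.zpowers z) ?_ ?_
  · refine IsPGroup.of_card (n := 1) ?_
    rw [Nat.card_zpowers, hz, pow_one]
  · intro h
    rw [Subgroup.zpowers_eq_bot] at h
    rw [h, orderOf_one] at hz
    norm_num at hz

theorem HasTwo.of_dihedral {H : Subgroup S} {k : ℕ} (e : H ≃* DihedralGroup k) (hk : Even k) (hk0 : k ≠ 0) :
    HasTwo H := by
  obtain ⟨m, hm⟩ := hk
  have hm0 : 0 < m := by omega
  have hmm : (m : ZMod k) + m = 0 := by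
    have h1 : ((m + m : ℕ) : ZMod k) = 0 := by rw [← hm]; exact ZMod.natCast_self k
    rwa [Nat.cast_add] at h1
  have hneg : -(m : ZMod k) = m := by
    rw [neg_eq_iff_add_eq_zero]; exact hmm
  have hm1 : (m : ZMod k) ≠ 0 := by
    intro h
    rw [ZMod.natCast_eq_zero_iff] at h
    have := Nat.le_of_dvd hm0 h
    omega
  let z : DihedralGroup k := DihedralGroup.r m
  have hc : ∀ g : DihedralGroup k, g * z * g⁻¹ = z := by
    intro g
    rw [mul_inv_eq_iff_eq_mul]
    rcases g with i | i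
    · show DihedralGroup.r i * DihedralGroup.r (m : ZMod k) = DihedralGroup.r (m : ZMod k) * DihedralGroup.r i
      rw [DihedralGroup.r_mul_r, DihedralGroup.r_mul_r, add_comm]
    · show DihedralGroup.sr i * DihedralGroup.r (m : ZMod k) = DihedralGroup.r (m : ZMod k) * DihedralGroup.sr i
      rw [DihedralGroup.sr_mul_r, DihedralGroup.r_mul_sr, sub_eq_add_neg, hneg]
  have hz2 : z * z = 1 := by
    show DihedralGroup.r (m : ZMod k) * DihedralGroup.r (m : ZMod k) = 1
    rw [DihedralGroup.r_mul_r, hmm]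
    rfl
  have hz1 : z ≠ 1 := by
    intro h
    exact hm1 (DihedralGroup.r.inj h)
  have ho : orderOf z = 2 := orderOf_eq_prime (by rw [pow_two, hz2]) hz1
  have hn : (Subgroup.zpowers z).Normal := by
    refine ⟨fun n hn g => ?_⟩
    obtain ⟨j, rfl⟩ := Subgroup.mem_zpowers_iff.1 hn
    rw [← conj_zpow, hc g]
    exact hn
  refine HasTwo.of_equiv e (Subgroup.zpowers z) ?_ ?_
  · refine IsPGroup.of_card (n := 1) ?_
    rw [Nat.card_zpowers, ho, pow_one]
  · intro h
    rw [Subgroup.zpowers_eq_bot] at h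
    exact hz1 h

/-- the Klein four-group in `S_4` -/
def V4 : Subgroup (Equiv.Perm (Fin 4)) where
  carrier := {σ | σ * σ = 1 ∧ Equiv.Perm.sign σ = 1}
  mul_mem' {a b} := by
    revert a b
    decide +kernel
  one_mem' := by decide
  inv_mem' {a} := by
    rintro ⟨h1, h2⟩
    refine ⟨?_, ?_⟩
    · rw [← _root_.mul_inv_rev, h1, inv_one]
    · rw [map_inv, h2, inv_one]

theorem V4_normal : V4.Normal := by
  refine ⟨fun n hn g => ?_⟩
  obtain ⟨h1, h2⟩ := hn
  refine ⟨?_, ?_⟩
  · have : g * n * g⁻¹ * (g * n * g⁻¹) = g * (n * n) * g⁻¹ := by group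
    rw [this, h1, mul_one, mul_inv_cancel]
  · rw [map_mul, map_mul, map_inv, h2, mul_one, mul_inv_cancel]

theorem V4_two : IsPGroup 2 V4 := by
  intro x
  refine ⟨1, Subtype.ext ?_⟩
  rw [Subgroup.coe_pow, pow_one, pow_two]
  exact x.2.1

theorem V4_mem : (Equiv.swap 0 1 * Equiv.swap 2 3 : Equiv.Perm (Fin 4)) ∈ V4 := by
  show _ ∧ _
  decide

theorem HasTwo.of_permFour {H : Subgroup S} (e : H ≃* Equiv.Perm (Fin 4)) : HasTwo H := by
  have := V4_normal
  refine HasTwo.of_equiv e V4 V4_two ?_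
  intro h
  have h1 := V4_mem
  rw [h, Subgroup.mem_bot] at h1
  exact absurd h1 (by decide)

theorem HasTwo.of_altFour {H : Subgroup S} (e : H ≃* alternatingGroup (Fin 4)) : HasTwo H := by
  have := V4_normal
  have hn : (V4.comap (alternatingGroup (Fin 4)).subtype).Normal := inferInstance
  refine HasTwo.of_equiv e (V4.comap (alternatingGroup (Fin 4)).subtype) ?_ ?_
  · exact V4_two.comap_of_injective _ (alternatingGroup (Fin 4)).subtype_injective
  · intro h
    have h1 : (⟨Equiv.swap 0 1 * Equiv.swap 2 3, by rw [Equiv.Perm.mem_alternatingGroup]; decide⟩ :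
        alternatingGroup (Fin 4)) ∈ V4.comap (alternatingGroup (Fin 4)).subtype := V4_mem
    rw [h, Subgroup.mem_bot] at h1
    have h2 := congrArg Subtype.val h1
    exact absurd h2 (by decide)

end Gen

section Dick

variable {F : Type} [Field F] [Fintype F]

theorem four_dvd (h2 : Odd (Fintype.card F)) : 4 ∣ Nat.card (ProjectiveSpecialLinearGroup (Fin 2) F) := by
  have h1 := Cfsg.Agent.H394.SqPsl2.card_psl (F := F)
  have h3 : Nat.gcd 2 (Fintype.card F - 1) = 2 := by
    refine Nat.gcd_eq_left ?_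
    obtain ⟨k, hk⟩ := h2
    exact ⟨k, by omega⟩
  rw [h3] at h1
  have h4 : 8 ∣ Fintype.card F ^ 2 - 1 := Nat.eight_dvd_sq_sub_one_of_odd h2
  obtain ⟨c, hc⟩ := h4
  refine ⟨Fintype.card F * c, ?_⟩
  have h5 : 2 * Nat.card (ProjectiveSpecialLinearGroup (Fin 2) F) = Fintype.card F * (8 * c) := by
    rw [h1, ← hc]
  nlinarith

/-- **Dickson**: `O_2(H) ≠ 1` or `H ≅ A_5`. -/
theorem hasTwo_or_alt {p : ℕ} [hp : Fact p.Prime] [CharP F p] (hodd : Odd (Fintype.card F))
    (H : Subgroup (ProjectiveSpecialLinearGroup (Fin 2) F)) (h2 : ¬ 2 ∣ H.index) (hpH : ¬ p ∣ Nat.card H) :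
    HasTwo H ∨ Nonempty (H ≃* alternatingGroup (Fin 5)) := by
  have h4 : 4 ∣ Nat.card H := by
    have h5 : 4 ∣ Nat.card H * H.index := by
      rw [Subgroup.card_mul_index]
      exact four_dvd hodd
    have h6 : Nat.Coprime 4 H.index := by
      rw [show 4 = 2 ^ 2 from rfl]
      exact Nat.Coprime.pow_left 2 ((Nat.Prime.coprime_iff_not_dvd Nat.prime_two).2 h2)
    exact h6.dvd_of_dvd_mul_right h5
  rcases Cfsg.Agent.S0799.result (F := F) rfl p H with ⟨k, -, h | ⟨⟨e⟩⟩⟩ | ⟨P, K, hK, ⟨e⟩⟩ | ⟨⟨e⟩⟩ | ⟨⟨e⟩⟩ | h |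
    ⟨K, _, _, m, hm, he⟩
  · left
    have hc := h.1
    refine HasTwo.of_comm (fun a b => ?_) ((by norm_num : (2 : ℕ) ∣ 4).trans h4)
    let _ := hc.commGroup
    exact mul_comm a b
  · left
    rw [Nat.card_congr e.toEquiv, DihedralGroup.nat_card] at h4
    refine HasTwo.of_dihedral e ?_ ?_
    · obtain ⟨c, hc⟩ := h4
      exact ⟨c, by omega⟩
    · rintro rfl
      have : Finite (DihedralGroup 0) := Finite.of_equiv _ e.toEquiv
      exact (not_finite (DihedralGroup 0))
  · left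
    refine HasTwo.of_comm (fun a b => ?_) ((by norm_num : (2 : ℕ) ∣ 4).trans h4)
    have hpK : ¬ p ∣ Nat.card K := by rwa [← Nat.card_congr e.toEquiv]
    obtain ⟨k, hk⟩ := Cfsg.Agent.H947.Sy.commutator_mem P (hK (e a).2) (hK (e b).2)
    have h5 : e a * e b * (e a)⁻¹ * (e b)⁻¹ = 1 := by
      rw [← orderOf_eq_one_iff]
      have h6 : orderOf (e a * e b * (e a)⁻¹ * (e b)⁻¹) ∣ p ^ k := by
        apply orderOf_dvd_of_pow_eq_one
        apply Subtype.ext
        rw [Subgroup.coe_pow]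
        exact hk
      have h7 : Nat.Coprime (p ^ k) (Nat.card K) := Nat.Coprime.pow_left k ((Nat.Prime.coprime_iff_not_dvd hp.out).2 hpK)
      exact Nat.eq_one_of_dvd_coprimes h7 h6 (orderOf_dvd_natCard _)
    apply e.injective
    rw [map_mul, map_mul]
    rw [mul_inv_eq_one, mul_inv_eq_iff_eq_mul] at h5
    exact h5
  · exact Or.inl (HasTwo.of_altFour e)
  · exact Or.inl (HasTwo.of_permFour e)
  · exact Or.inr h
  · exfalso
    have hK : CharP K p := by
      obtain ⟨r, hr⟩ := CharP.exists K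
      have hrp : r.Prime := CharP.char_is_prime K r
      obtain ⟨n, -, hn⟩ := FiniteField.card K r
      obtain ⟨l, -, hl⟩ := FiniteField.card F p
      rw [hn, hl, ← pow_mul] at hm
      have h1 : p ∣ r ^ ((n : ℕ) * m) := by
        rw [hm]
        exact dvd_pow_self p l.2.ne'
      have h2 := (Nat.prime_dvd_prime_iff_eq hp.out hrp).1 (hp.out.dvd_of_dvd_pow h1)
      rw [h2]
      exact hr
    rcases he with ⟨⟨e⟩⟩ | ⟨⟨e⟩⟩
    · exact hpH (by rw [Nat.card_congr e.toEquiv]; exact Cfsg.Agent.H491.KGV.dvd_card_psl)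
    · exact hpH (by rw [Nat.card_congr e.toEquiv]; exact Cfsg.Agent.H491.KGV.dvd_card_pgl)

end Dick

end Cfsg.Agent.H563.RV
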